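import Cfsg.Agent.Lib.McLRecog.Quads
import Mathlib.GroupTheory.Sylow

/-! The subgroups of order 29160 are the point stabilisers. -/

set_option autoImplicit false

namespace CfsgLib.McLRecog

open scoped Pointwise

theorem pq_adj : madj 0 pq := by unfold madj; decide +kernel

theorem card_common {i j : P} (h : madj i j) : (setOf (adjM i) ∩ setOf (adjM j)).card = 2 := by
  obtain ⟨π, hπ, rfl, rfl⟩ := exists_map_edge h
  have ha := H0_le_autG hπ
  have e : ∀ x : P, setOf (adjM (π x)) = (setOf (adjM x)).image π := fun x => by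
    ext y
    simp only [mem_setOf, Finset.mem_image]
    exact ⟨fun hy => ⟨π⁻¹ y, (ha x (π⁻¹ y)).1 (by simpa [madj] using hy), by simp⟩,
      fun ⟨z, hz, he⟩ => he ▸ (ha x z).2 hz⟩
  rw [e, e, ← Finset.image_inter _ _ π.injective, Finset.card_image_of_injective _ π.injective,
    ← setOf_and, ← pc_eq]
  have h2 := CfsgLib.Comp.PermCode.allLt_spec common_ok pq pq.2
  rw [show (adjM 0).testBit (pq : P) = true from pq_adj, Bool.not_true, Bool.false_or, Nat.beq_eq] at h2
  exact h2

theorem clique_le {C : Finset P} (hC : ∀ x ∈ C, ∀ y ∈ C, x ≠ y → madj x y) {i j : P} (hi : i ∈ C)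
    (hj : j ∈ C) (hij : i ≠ j) : C ⊆ insert i (insert j (setOf (adjM i) ∩ setOf (adjM j))) ∧
      (insert i (insert j (setOf (adjM i) ∩ setOf (adjM j)))).card ≤ 4 := by
  refine ⟨fun x hx => ?_, (Finset.card_insert_le _ _).trans (Nat.succ_le_succ ((Finset.card_insert_le _ _).trans
    (Nat.succ_le_succ (card_common (hC i hi j hj hij)).le)))⟩
  simp only [Finset.mem_insert, Finset.mem_inter, mem_setOf]
  by_cases h1 : x = i
  · exact Or.inl h1
  by_cases h2 : x = j
  · exact Or.inr (Or.inl h2)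
  exact Or.inr (Or.inr ⟨hC i hi x hx (Ne.symm h1), hC j hj x hx (Ne.symm h2)⟩)

/-- A clique with four points is the quad through any two of them. -/
theorem clique_eq_quad {C : Finset P} (hC : ∀ x ∈ C, ∀ y ∈ C, x ≠ y → madj x y) (h4 : C.card = 4)
    {k : ℕ} (hk : k < 280) {i j : P} (hi : i ∈ C) (hj : j ∈ C) (hi' : i ∈ qset k) (hj' : j ∈ qset k)
    (hij : i ≠ j) : C = qset k := by
  obtain ⟨h1, h2⟩ := clique_le hC hi hj hij
  obtain ⟨h3, -⟩ := clique_le (fun x hx y hy => quad_clique hk hx hy) hi' hj' hij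
  rw [Finset.eq_of_subset_of_card_le h1 (by omega), Finset.eq_of_subset_of_card_le h3 (by rw [quad_card hk]; omega)]

theorem exists_map_quad {k l : ℕ} (hk : k < 280) (hl : l < 280) : ∃ π ∈ H0, (qset k).image π = qset l := by
  obtain ⟨a, b, c, d, he, hab, -, -, -, -, -, -, h1, -⟩ := quad_spec hk
  obtain ⟨a', b', c', d', he', hab', -, -, -, -, -, -, h1', -⟩ := quad_spec hl
  obtain ⟨π, hπ, e1, e2⟩ := exists_map_edge h1
  obtain ⟨σ, hσ, f1, f2⟩ := exists_map_edge h1'
  refine ⟨σ * π⁻¹, mul_mem hσ (inv_mem hπ), ?_⟩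
  obtain ⟨m, hm, hme⟩ := quad_image (mul_mem hσ (inv_mem hπ)) hk
  rw [hme]
  refine clique_eq_quad (fun x hx y hy => quad_clique hm hx hy) (quad_card hm) hl (i := a') (j := b') ?_ ?_
    (by simp [he']) (by simp [he']) hab'.ne
  · rw [← hme]; exact Finset.mem_image.2 ⟨a, by simp [he], by simp [← e1, f1]⟩
  · rw [← hme]; exact Finset.mem_image.2 ⟨b, by simp [he], by simp [← e2, f2]⟩

theorem card_quad_stab {k : ℕ} (hk : k < 280) :
    Nat.card (MulAction.stabilizer H0 (qset k)) ≤ 11664 := by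
  have h := Subgroup.card_mul_index (MulAction.stabilizer H0 (qset k))
  rw [MulAction.index_stabilizer, card_H0] at h
  have h280 : 280 ≤ (MulAction.orbit H0 (qset k)).ncard := by
    have hsub : qset '' Set.Iio 280 ⊆ MulAction.orbit H0 (qset k) := by
      rintro _ ⟨l, hl, rfl⟩
      obtain ⟨π, hπ, he⟩ := exists_map_quad hk hl
      exact ⟨⟨π, hπ⟩, he⟩
    refine le_trans ?_ (Set.ncard_le_ncard hsub)
    rw [Set.InjOn.ncard_image (s := Set.Iio 280) fun a ha b hb e => qset_injective ha hb e]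
    rw [← Finset.coe_Iio, Set.ncard_coe_finset, Nat.card_Iio]
  have := Nat.mul_le_mul_left (Nat.card (MulAction.stabilizer H0 (qset k))) h280
  omega

theorem card_stab (i : P) : Nat.card (MulAction.stabilizer H0 i) = 29160 := by
  have h := Subgroup.card_mul_index (MulAction.stabilizer H0 i)
  have : MulAction.IsPretransitive H0 P := ⟨fun x y => by
    obtain ⟨π, hπ, rfl⟩ := exists_map_zero x
    obtain ⟨σ, hσ, rfl⟩ := exists_map_zero y
    exact ⟨⟨σ * π⁻¹, mul_mem hσ (inv_mem hπ)⟩, by simp [Subgroup.smul_def]⟩⟩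
  rw [MulAction.index_stabilizer_of_transitive, card_H0, Nat.card_eq_fintype_card (α := P), Fintype.card_fin] at h
  omega

/-- A subgroup of order 729 fixing a point has long orbits elsewhere. -/
theorem dvd_orbit {Q : Subgroup H0} (hQ : Nat.card Q = 729) {i y : P} (hQi : Q ≤ MulAction.stabilizer H0 i)
    (hy : y ≠ i) : (madj i y → 3 ∣ (MulAction.orbit Q y).ncard) ∧
      (¬ madj i y → 81 ∣ (MulAction.orbit Q y).ncard) := by
  set S := MulAction.stabilizer H0 i with hS
  have hfix : ∀ g : S, (g : H0) • i = i := fun g => g.2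
  have hq := Subgroup.card_mul_index (MulAction.stabilizer Q y)
  rw [MulAction.index_stabilizer, hQ] at hq
  have hd : Nat.card (MulAction.stabilizer Q y) ∣ Nat.card (MulAction.stabilizer S y) := by
    let f : MulAction.stabilizer Q y →* MulAction.stabilizer S y :=
      { toFun := fun q => ⟨⟨q.1.1, hQi q.1.2⟩, q.2⟩, map_one' := rfl, map_mul' := fun _ _ => rfl }
    exact Subgroup.card_dvd_of_injective f fun a b h => Subtype.ext (Subtype.ext
      (congrArg (fun z : MulAction.stabilizer S y => (z.1 : H0)) h))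
  have hst := Subgroup.card_mul_index (MulAction.stabilizer S y)
  rw [MulAction.index_stabilizer, card_stab] at hst
  obtain ⟨π, hπ, hπi⟩ := exists_map_zero i
  have ha := H0_le_autG hπ
  have horb : ∀ N : Finset P, y ∈ N → (∀ z ∈ N, ∃ g : S, g • y = z) → (∀ g : S, g • y ∈ N) →
      (MulAction.orbit S y).ncard = N.card := by
    intro N _ h1 h2
    rw [← Set.ncard_coe_finset]
    congr 1
    ext z
    exact ⟨fun ⟨g, hg⟩ => hg ▸ h2 g, fun hz => h1 z hz⟩
  have hgS : ∀ σ ∈ St, ∃ g : S, ∀ x, g • x = π (σ (π⁻¹ x)) := by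
    intro σ hσ
    refine ⟨⟨⟨π * σ * π⁻¹, mul_mem (mul_mem hπ hσ.1) (inv_mem hπ)⟩, ?_⟩, fun x => rfl⟩
    show π (σ (π⁻¹ i)) = i
    rw [← hπi]; simp [show σ 0 = 0 from hσ.2]
  have hinv : ∀ g : S, ∀ x, madj i (g • x) ↔ madj i x := fun g x => by
    conv_lhs => rw [← hfix g]
    exact H0_le_autG g.1.2 i x
  constructor
  · intro hadj
    have h30 : (MulAction.orbit S y).ncard = 30 := by
      rw [horb (setOf (adjM i)) (mem_setOf.2 hadj) ?_ (fun g => mem_setOf.2 ((hinv g y).2 hadj))]
      · exact (madj_spec i).2.2.1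
      intro z hz
      have h1 : madj 0 (π⁻¹ y) := by rw [← ha 0 (π⁻¹ y), hπi]; simpa using hadj
      have h2 : madj 0 (π⁻¹ z) := by rw [← ha 0 (π⁻¹ z), hπi]; simpa [madj] using mem_setOf.1 hz
      obtain ⟨σ, hσ, e1⟩ := exists_stab_adj h1
      obtain ⟨τ, hτ, e2⟩ := exists_stab_adj h2
      obtain ⟨g, hg⟩ := hgS (τ * σ⁻¹) (mul_mem hτ (inv_mem hσ))
      exact ⟨g, by rw [hg, Equiv.Perm.mul_apply, Equiv.Perm.inv_eq_iff_eq.2 e1.symm, e2]; simp⟩
    rw [h30] at hst
    have : Nat.card (MulAction.stabilizer Q y) ∣ 243 := by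
      have h : Nat.card (MulAction.stabilizer S y) = 972 := by omega
      have := Nat.dvd_gcd (dvd_trans hd (dvd_of_eq h)) (Dvd.intro _ hq)
      simpa using this
    obtain ⟨d, hd'⟩ := this
    have h0 := Nat.card_pos (α := MulAction.stabilizer Q y)
    refine ⟨d, Nat.eq_of_mul_eq_mul_left h0 ?_⟩
    rw [hq, mul_left_comm, ← hd']
    all_goals norm_num
  · intro hadj
    have h81 : (MulAction.orbit S y).ncard = 81 := by
      rw [horb (insert i (setOf (adjM i)))ᶜ (by simp [hy, mem_setOf]; simpa [madj] using hadj) ?_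
        (fun g => by
          simp only [Finset.mem_compl, Finset.mem_insert, mem_setOf, not_or]
          exact ⟨fun h => hy (smul_left_cancel g (h.trans (hfix g).symm)),
            fun h => hadj ((hinv g y).1 h)⟩)]
      · rw [Finset.card_compl, Finset.card_insert_of_notMem (fun h => madj_irrefl i (mem_setOf.1 h)),
          (madj_spec i).2.2.1, Fintype.card_fin]
      intro z hz
      simp only [Finset.mem_compl, Finset.mem_insert, mem_setOf, not_or] at hz
      have h1 : ¬ madj 0 (π⁻¹ y) := by rw [← ha 0 (π⁻¹ y), hπi]; simpa using hadj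
      have h2 : ¬ madj 0 (π⁻¹ z) := by rw [← ha 0 (π⁻¹ z), hπi]; simpa [madj] using hz.2
      have hy0 : π⁻¹ y ≠ 0 := fun h => hy (by rw [← hπi, ← h]; simp)
      have hz0 : π⁻¹ z ≠ 0 := fun h => hz.1 (by rw [← hπi, ← h]; simp)
      obtain ⟨σ, hσ, e1⟩ := exists_stab_nonadj hy0 h1
      obtain ⟨τ, hτ, e2⟩ := exists_stab_nonadj hz0 h2
      obtain ⟨g, hg⟩ := hgS (τ * σ⁻¹) (mul_mem hτ (inv_mem hσ))
      exact ⟨g, by rw [hg, Equiv.Perm.mul_apply, Equiv.Perm.inv_eq_iff_eq.2 (Fin.ext e1).symm, Fin.ext e2]; simp⟩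
    rw [h81] at hst
    have : Nat.card (MulAction.stabilizer Q y) ∣ 9 := by
      have h : Nat.card (MulAction.stabilizer S y) = 360 := by omega
      have := Nat.dvd_gcd (dvd_trans hd (dvd_of_eq h)) (Dvd.intro _ hq)
      simpa using this
    obtain ⟨d, hd'⟩ := this
    have h0 := Nat.card_pos (α := MulAction.stabilizer Q y)
    refine ⟨d, Nat.eq_of_mul_eq_mul_left h0 ?_⟩
    rw [hq, mul_left_comm, ← hd']
    all_goals norm_num

/-- A subgroup of order 29160 fixes a point. -/
theorem exists_eq_stab (M : Subgroup H0) (hM : Nat.card M = 29160) : ∃ i : P, M = MulAction.stabilizer H0 i := by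
  classical
  have : Fact (Nat.Prime 3) := ⟨Nat.prime_three⟩
  obtain ⟨QM, hQM⟩ := Sylow.exists_subgroup_card_pow_prime 3 (G := M) (n := 6) (by rw [hM]; norm_num)
  obtain ⟨QS, hQS⟩ := Sylow.exists_subgroup_card_pow_prime 3 (G := MulAction.stabilizer H0 (0 : P)) (n := 6)
    (by rw [card_stab]; norm_num)
  have hfac : (Nat.card H0).factorization 3 = 6 := by
    rw [card_H0, show (3265920 : ℕ) = 3 ^ 6 * 4480 by norm_num, Nat.factorization_mul (by norm_num) (by norm_num),
      Nat.Prime.factorization_pow Nat.prime_three]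
    simp [Nat.factorization_eq_zero_of_not_dvd (show ¬ 3 ∣ 4480 by norm_num)]
  set A := QM.map M.subtype with hA
  set B := QS.map (MulAction.stabilizer H0 (0 : P)).subtype with hB
  have cA : Nat.card A = 729 := by
    rw [hA, Subgroup.card_map_of_injective M.subtype_injective, hQM]; norm_num
  have cB : Nat.card B = 729 := by
    rw [hB, Subgroup.card_map_of_injective (Subgroup.subtype_injective _), hQS]; norm_num
  let SA : Sylow 3 H0 := Sylow.ofCard A (by rw [cA, hfac]; norm_num)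
  let SB : Sylow 3 H0 := Sylow.ofCard B (by rw [cB, hfac]; norm_num)
  obtain ⟨g, hg⟩ := MulAction.exists_smul_eq H0 SB SA
  refine ⟨g • 0, ?_⟩
  set i := g • (0 : P)
  have hAM : A ≤ M := Subgroup.map_subtype_le _
  have hAi : A ≤ MulAction.stabilizer H0 i := by
    intro a ha
    have hb : g⁻¹ * a * g ∈ B := by
      have he : (SA : Subgroup H0) = MulAut.conj g • (SB : Subgroup H0) := by rw [← hg]; rfl
      have ha' : a ∈ (SA : Subgroup H0) := ha
      rw [he, Subgroup.mem_pointwise_smul_iff_inv_smul_mem] at ha'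
      show g⁻¹ * a * g ∈ (SB : Subgroup H0)
      simpa [MulAut.smul_def] using ha'
    have h0 : (g⁻¹ * a * g) • (0 : P) = 0 := Subgroup.map_subtype_le _ hb
    show a • i = i
    rwa [mul_smul, mul_smul, inv_smul_eq_iff] at h0
  set O := MulAction.orbit M i with hO
  have hk := Subgroup.card_mul_index (MulAction.stabilizer M i)
  rw [MulAction.index_stabilizer, hM, ← hO] at hk
  have hAMi : 729 ∣ Nat.card (MulAction.stabilizer M i) := by
    rw [← cA]
    exact Subgroup.card_dvd_of_injective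
      ({ toFun := fun a => ⟨⟨a.1, hAM a.2⟩, hAi a.2⟩, map_one' := rfl, map_mul' := fun _ _ => rfl } :
        A →* MulAction.stabilizer M i)
      fun a b h => Subtype.ext (congrArg (fun z : MulAction.stabilizer M i => (z.1 : H0)) h)
  have h40 : O.ncard ≤ 40 := by
    obtain ⟨d, hd⟩ := hAMi
    rw [hd] at hk
    have : d * O.ncard = 40 := by nlinarith
    rcases Nat.eq_zero_or_pos d with rfl | hd0
    · simp at this
    · nlinarith
  have hsub : ∀ {y}, y ∈ O → MulAction.orbit A y ⊆ O := by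
    rintro y hy _ ⟨a, rfl⟩
    rw [hO, ← MulAction.orbit_eq_iff.2 hy]
    exact ⟨⟨a.1, hAM a.2⟩, rfl⟩
  by_cases hsingle : ∀ y ∈ O, y = i
  · refine Subgroup.eq_of_le_of_card_ge (fun m hm => hsingle _ ⟨⟨m, hm⟩, rfl⟩) ?_
    rw [card_stab, hM]
  push Not at hsingle
  obtain ⟨y, hy, hyi⟩ := hsingle
  exfalso
  have hadj : ∀ z ∈ O, z ≠ i → madj i z := by
    intro z hz hzi
    by_contra hn
    obtain ⟨d, hd⟩ := (dvd_orbit cA hAi hzi).2 hn
    have hp : 0 < (MulAction.orbit A z).ncard := (Set.ncard_pos).2 ⟨z, MulAction.mem_orbit_self z⟩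
    have := Set.ncard_le_ncard (hsub hz)
    rcases Nat.eq_zero_or_pos d with rfl | hd0 <;> omega
  have hclq : ∀ x ∈ O.toFinset, ∀ z ∈ O.toFinset, x ≠ z → madj x z := by
    intro x hx z hz hxz
    rw [Set.mem_toFinset] at hx hz
    obtain ⟨m, rfl⟩ := hx
    have hz' : m⁻¹ • z ∈ O := by
      rw [hO] at hz ⊢
      exact (MulAction.smul_orbit m⁻¹ i).subset ⟨z, hz, rfl⟩
    have h := hadj _ hz' (fun h => hxz (by rw [← h]; exact smul_inv_smul m z))
    have := (H0_le_autG m.1.2 i (m⁻¹ • z)).2 h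
    have e : (m.1.1 : Equiv.Perm P) (m⁻¹ • z) = z := smul_inv_smul m z
    rwa [e] at this
  have hi : i ∈ O.toFinset := Set.mem_toFinset.2 (MulAction.mem_orbit_self i)
  have hy' : y ∈ O.toFinset := Set.mem_toFinset.2 hy
  obtain ⟨h1, h2⟩ := clique_le hclq hi hy' (Ne.symm hyi)
  have hle := (Finset.card_le_card h1).trans h2
  have h4 : O.toFinset.card = 4 := by
    refine le_antisymm hle ?_
    rw [← Set.ncard_eq_toFinset_card']
    have hins : insert i (MulAction.orbit A y) ⊆ O := Set.insert_subset (MulAction.mem_orbit_self i) (hsub hy)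
    have hni : i ∉ MulAction.orbit A y := by
      rintro ⟨a, ha⟩
      exact hyi (smul_left_cancel a (ha.trans (hAi a.2).symm))
    have := Set.ncard_le_ncard hins
    rw [Set.ncard_insert_of_notMem hni] at this
    obtain ⟨d, hd⟩ := (dvd_orbit cA hAi hyi).1 (hadj y hy hyi)
    have hp : 0 < (MulAction.orbit A y).ncard := (Set.ncard_pos).2 ⟨y, MulAction.mem_orbit_self y⟩
    omega
  obtain ⟨k, hk280, hik, hyk⟩ := exists_quad (hadj y hy hyi)
  have hq := clique_eq_quad hclq h4 hk280 hi hy' hik hyk (Ne.symm hyi)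
  have hMle : M ≤ MulAction.stabilizer H0 (qset k) := by
    intro m hm
    rw [MulAction.mem_stabilizer_iff, ← hq, ← Finset.coe_inj, Finset.coe_smul_finset, Set.coe_toFinset]
    exact MulAction.smul_orbit (⟨m, hm⟩ : M) i
  have := Nat.card_le_card_of_injective _ (Subgroup.inclusion_injective hMle)
  rw [hM] at this
  have := card_quad_stab hk280
  omega

/-- A transitive action of degree 112 is the standard one. -/
theorem exists_equivariant {Sa Ω : Type*} [Group Sa] [MulAction Sa Ω] (φ : Sa ≃* H0) (b : Ω)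
    (hb : (MulAction.orbit Sa b).ncard = 112) :
    ∃ f : P → Ω, Function.Injective f ∧ Set.range f = MulAction.orbit Sa b ∧
      ∀ (s : Sa) (i : P), s • f i = f ((φ s).1 i) := by
  have : Finite Sa := Finite.of_equiv _ φ.symm.toEquiv
  have hcard : Nat.card (MulAction.stabilizer Sa b) = 29160 := by
    have h := Subgroup.card_mul_index (MulAction.stabilizer Sa b)
    rw [MulAction.index_stabilizer, hb, Nat.card_congr φ.toEquiv, card_H0] at h
    omega
  obtain ⟨i, hi⟩ := exists_eq_stab ((MulAction.stabilizer Sa b).map φ.toMonoidHom)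
    (by rw [Subgroup.card_map_of_injective φ.injective]; exact hcard)
  have hiff : ∀ s : Sa, s • b = b ↔ (φ s).1 i = i := fun s => by
    have : φ s ∈ (MulAction.stabilizer Sa b).map φ.toMonoidHom ↔ φ s ∈ MulAction.stabilizer H0 i := by rw [hi]
    rw [Subgroup.mem_map_equiv, φ.symm_apply_apply] at this
    exact this
  have hex : ∀ j : P, ∃ h : H0, h.1 i = j := fun j => by
    obtain ⟨π, hπ, rfl⟩ := exists_map_zero i
    obtain ⟨σ, hσ, rfl⟩ := exists_map_zero j
    exact ⟨⟨σ * π⁻¹, mul_mem hσ (inv_mem hπ)⟩, by simp⟩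
  choose h hh using hex
  refine ⟨fun j => φ.symm (h j) • b, fun j l e => ?_, ?_, fun s j => ?_⟩
  · have e' : (φ.symm (h l))⁻¹ * φ.symm (h j) ∈ MulAction.stabilizer Sa b := by
      rw [MulAction.mem_stabilizer_iff, mul_smul, inv_smul_eq_iff]; exact e
    have := (hiff _).1 e'
    rw [map_mul, map_inv, φ.apply_symm_apply, φ.apply_symm_apply, Subgroup.coe_mul, Subgroup.coe_inv,
      Equiv.Perm.mul_apply, Equiv.Perm.inv_eq_iff_eq, hh, hh] at this
    exact this.symm ▸ rfl
  · refine Set.Subset.antisymm ?_ ?_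
    · rintro _ ⟨j, rfl⟩; exact ⟨_, rfl⟩
    · rintro _ ⟨s, rfl⟩
      refine ⟨(φ s).1 i, ?_⟩
      show φ.symm (h _) • b = s • b
      rw [← inv_smul_eq_iff, ← mul_smul, hiff, map_mul, map_inv, φ.apply_symm_apply, Subgroup.coe_mul,
        Subgroup.coe_inv, Equiv.Perm.mul_apply, hh, Equiv.Perm.inv_def, Equiv.symm_apply_apply]
  · show s • φ.symm (h j) • b = φ.symm (h ((φ s).1 j)) • b
    rw [← mul_smul, eq_comm, ← inv_smul_eq_iff, ← mul_smul, hiff, map_mul, map_inv, map_mul, φ.apply_symm_apply,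
      φ.apply_symm_apply, Subgroup.coe_mul, Subgroup.coe_inv, Subgroup.coe_mul, Equiv.Perm.mul_apply,
      hh, Equiv.Perm.inv_eq_iff_eq, Equiv.Perm.mul_apply, hh]

end CfsgLib.McLRecog
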