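import Cfsg.Agent.Lib.McLRecog.Model
import Mathlib.GroupTheory.GroupAction.FixingSubgroup
import Mathlib.GroupTheory.Subgroup.Simple
import Mathlib.GroupTheory.Index

/-! The automorphism group of the graph on 112 vertices has order at most eight times `|U₄(3)|`. -/

set_option autoImplicit false

namespace CfsgLib.McLRecog

open CfsgLib.Comp

theorem mem_cls (v : P) (D : ℕ) (x : P) : x ∈ setOf (cls v D) ↔
    x ∉ setOf D ∧ ∀ u ∈ setOf D, (madj u x ↔ madj u v) := by
  have h : ∀ k, k ≤ 112 → (x ∈ setOf (Nat.rec (motive := fun _ => ℕ) (full ^^^ D) (fun u ih => bif Nat.testBit D u then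
      (bif Nat.testBit (adjM v) u then ih &&& adjM u else ih &&& (full ^^^ adjM u)) else ih) k) ↔
        x ∉ setOf D ∧ ∀ u ∈ setOf D, (u : ℕ) < k → (madj u x ↔ madj u v)) := by
    intro k
    induction k with
    | zero => intro _; simp [setOf_xor_full]
    | succ k ih =>
      intro hk
      show x ∈ setOf (bif Nat.testBit D k then _ else _) ↔ _
      have hsplit : ∀ (u : P), (u : ℕ) < k + 1 ↔ (u : ℕ) < k ∨ u = ⟨k, by omega⟩ := fun u => by
        rw [Fin.ext_iff]; exact Nat.lt_succ_iff_lt_or_eq
      have ih := ih (by omega)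
      cases hD : Nat.testBit D k
      · rw [cond_false, ih]
        refine and_congr_right fun _ => ⟨fun h u hu hlt => ?_, fun h u hu hlt => h u hu (by omega)⟩
        rcases (hsplit u).1 hlt with h' | rfl
        · exact h u hu h'
        · rw [mem_setOf, hD] at hu; exact absurd hu (by simp)
      · rw [cond_true]
        have hvk : madj ⟨k, by omega⟩ v ↔ (adjM v).testBit k = true := madj_comm _ v
        cases hv : Nat.testBit (adjM v) k <;> simp only [cond_false, cond_true, setOf_and, setOf_xor_full,
          Finset.mem_inter, Finset.mem_compl, ih]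
        · constructor
          · rintro ⟨⟨h1, h2⟩, h3⟩
            refine ⟨h1, fun u hu hlt => ?_⟩
            rcases (hsplit u).1 hlt with h' | rfl
            · exact h2 u hu h'
            · rw [hvk, hv]; exact iff_of_false (fun h => h3 (mem_setOf.2 h)) (by simp)
          · rintro ⟨h1, h2⟩
            refine ⟨⟨h1, fun u hu hlt => h2 u hu (by omega)⟩, fun h => ?_⟩
            have := (h2 ⟨k, by omega⟩ (mem_setOf.2 hD) (by simp)).1 (mem_setOf.1 h)
            rw [hvk, hv] at this; exact absurd this (by simp)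
        · constructor
          · rintro ⟨⟨h1, h2⟩, h3⟩
            refine ⟨h1, fun u hu hlt => ?_⟩
            rcases (hsplit u).1 hlt with h' | rfl
            · exact h2 u hu h'
            · rw [hvk, hv]; exact iff_of_true (mem_setOf.1 h3) rfl
          · rintro ⟨h1, h2⟩
            refine ⟨⟨h1, fun u hu hlt => h2 u hu (by omega)⟩, mem_setOf.2 ?_⟩
            exact (h2 ⟨k, by omega⟩ (mem_setOf.2 hD) (by simp)).2 (hvk.2 hv)
  rw [cls, h 112 le_rfl]
  exact and_congr_right fun _ => forall₂_congr fun u _ => by simp [u.2]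

/-- Automorphisms fixing the points of a mask. -/
def fixG (D : ℕ) : Subgroup (Equiv.Perm P) :=
  autG ⊓ fixingSubgroup (Equiv.Perm P) (↑(setOf D) : Set P)

theorem mem_fixG {D : ℕ} {π : Equiv.Perm P} : π ∈ fixG D ↔ π ∈ autG ∧ ∀ u ∈ setOf D, π u = u := by
  simp [fixG, mem_fixingSubgroup_iff]

theorem card_fixG_le {v : ℕ} (hv : v < 112) {D k : ℕ} (hvk : pc (cls v D) ≤ k)
    (hD : (⟨v, hv⟩ : P) ∉ setOf D) :
    Nat.card (fixG D) ≤ k * Nat.card (fixG (D ||| 1 <<< v)) := by
  set x : P := ⟨v, hv⟩
  have h := Subgroup.card_mul_index (MulAction.stabilizer (fixG D) x)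
  rw [MulAction.index_stabilizer] at h
  have e : Nat.card (MulAction.stabilizer (fixG D) x) ≤ Nat.card (fixG (D ||| 1 <<< v)) := by
    refine Nat.card_le_card_of_injective (fun π => ⟨π.1.1, mem_fixG.2 ⟨(mem_fixG.1 π.1.2).1, fun u hu => ?_⟩⟩)
      fun a b h => Subtype.ext (Subtype.ext (congrArg (fun z : fixG (D ||| 1 <<< v) => z.1) h))
    rw [setOf_or, setOf_bit hv, Finset.mem_union, Finset.mem_singleton] at hu
    rcases hu with hu | rfl
    · exact (mem_fixG.1 π.1.2).2 u hu
    · exact π.2
  have o : (MulAction.orbit (fixG D) x).ncard ≤ k := by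
    refine le_trans ?_ (pc_eq (cls x D) ▸ hvk)
    rw [← Set.ncard_coe_finset]
    refine Set.ncard_le_ncard ?_ (Finset.finite_toSet _)
    rintro _ ⟨π, rfl⟩
    obtain ⟨haut, hfix⟩ := mem_fixG.1 π.2
    show π.1 x ∈ setOf (cls x D)
    refine (mem_cls x D _).2 ⟨fun hm => hD ?_, fun u hu => ?_⟩
    · have := hfix _ hm
      rw [EmbeddingLike.apply_eq_iff_eq] at this
      rwa [this] at hm
    · conv_lhs => rw [← hfix u hu, haut]
  rw [← h, mul_comm]
  exact Nat.mul_le_mul o e

theorem base_pos : ∀ e ∈ Data.base, 1 ≤ e.2 := by decide +kernel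

theorem base_sound : ∀ (l : List (ℕ × ℕ)) (D : ℕ), (∀ e ∈ l, 1 ≤ e.2) → baseB D l = true →
    Nat.card (fixG D) ≤ (l.map Prod.snd).prod
  | [], D, _, h => by
    rw [baseB, Nat.beq_eq] at h
    subst h
    have : fixG full = ⊥ := by
      rw [eq_bot_iff]
      intro π hπ
      exact Subgroup.mem_bot.2 (Equiv.ext fun u => (mem_fixG.1 hπ).2 u (by simp [setOf_full]))
    simp [this]
  | (v, k) :: rest, D, hpos, h => by
    have hrest := fun D h => base_sound rest D (fun e he => hpos e (List.mem_cons_of_mem _ he)) h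
    simp only [baseB, Bool.and_eq_true, Nat.blt_eq, Nat.ble_eq] at h
    obtain ⟨⟨hv, hk⟩, hr⟩ := h
    rw [List.map_cons, List.prod_cons]
    by_cases hD : (⟨v, hv⟩ : P) ∈ setOf D
    · have hk0 : fixG D = fixG (D ||| 1 <<< v) := by
        unfold fixG
        rw [setOf_or, setOf_bit hv, Finset.union_eq_left.2 (Finset.singleton_subset_iff.2 hD)]
      rw [hk0]
      exact (hrest _ hr).trans (Nat.le_mul_of_pos_left _ (hpos _ List.mem_cons_self))
    · exact (card_fixG_le hv hk hD).trans (Nat.mul_le_mul_left _ (hrest _ hr))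

theorem card_autG_le : Nat.card autG ≤ 8 * 3265920 := by
  have h := base_sound _ _ base_pos base_ok
  rw [base_prod] at h
  have e : fixG 0 = autG := by
    ext π; simp [mem_fixG, setOf_zero]
  rwa [e] at h

/-- A simple group of this order has one copy among the automorphisms. -/
theorem unique_copy {H1 H2 : Subgroup (Equiv.Perm P)} (h1 : H1 ≤ autG) (h2 : H2 ≤ autG)
    (c1 : Nat.card H1 = 3265920) (c2 : Nat.card H2 = 3265920) (hs : IsSimpleGroup H1) : H1 = H2 := by
  set D : Subgroup H1 := H2.subgroupOf H1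
  have hidx : D.index ≤ 8 := by
    have e : D.index = H2.relIndex H1 := rfl
    have this : H2.relIndex autG * Nat.card H2 = Nat.card autG := by
      rw [← Nat.card_congr (Subgroup.subgroupOfEquivOfLe h2).toEquiv, mul_comm]
      exact Subgroup.card_mul_index (H2.subgroupOf autG)
    have hle : H2.relIndex H1 ≤ H2.relIndex autG :=
      Subgroup.relIndex_le_of_le_right h1 (by
        intro h0; rw [h0, zero_mul] at this; exact Nat.card_pos.ne this)
    rw [c2] at this
    have hb : H2.relIndex autG * 3265920 ≤ 8 * 3265920 := le_of_eq_of_le this card_autG_le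
    rw [e]
    exact hle.trans (Nat.le_of_mul_le_mul_right hb (by norm_num))
  rcases hs.eq_bot_or_eq_top_of_normal D.normalCore inferInstance with hb | ht
  · exfalso
    rw [D.normalCore_eq_ker, MonoidHom.ker_eq_bot_iff] at hb
    have h := Nat.card_le_card_of_injective _ hb
    classical
    haveI : Fintype (H1 ⧸ D) := Fintype.ofFinite _
    rw [c1, Nat.card_eq_fintype_card (α := Equiv.Perm _), Fintype.card_perm, ← Nat.card_eq_fintype_card] at h
    change 3265920 ≤ D.index.factorial at h
    have := Nat.factorial_le hidx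
    have e8 : Nat.factorial 8 = 40320 := rfl
    omega
  · have hD : D = ⊤ := eq_top_iff.2 (ht ▸ D.normalCore_le)
    exact Subgroup.eq_of_le_of_card_ge (Subgroup.subgroupOf_eq_top.1 hD) (by rw [c1, c2])

end CfsgLib.McLRecog
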