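import Cfsg.Agent.Lib.McLRecog.Data
import Cfsg.Agent.Lib.Leech.Triangle.U43Cert

/-! Kernel checks for the graph on 112 vertices and its hemisystems. -/

set_option autoImplicit false

namespace CfsgLib.McLRecog

open CfsgLib.Comp
open CfsgLib.Leech.Triangle.U43 (u43Gens)

/-- All points. -/
def full : ℕ := 2 ^ 112 - 1
/-- The neighbours of a point. -/
def adjM (i : ℕ) : ℕ := Data.adjL.getD i 0
/-- The code of a generator. -/
def genC (k : ℕ) : ℕ := u43Gens.getD k 0
/-- Evaluation of a word. -/
def evN (w : List ℕ) (i : ℕ) : ℕ := w.foldr (fun k x => PermCode.get (genC k) x) i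
/-- A point of a quad. -/
def qpt (k t : ℕ) : ℕ := Nat.mod (Nat.shiftRight (Data.quadL.getD k 0) (8 * t)) 256
/-- The mask of a quad. -/
def qm (k : ℕ) : ℕ := Data.qmL.getD k 0
/-- A family of hemisystems. -/
def famL : ℕ → List ℕ
  | 0 => Data.fam0
  | 1 => Data.fam1
  | 2 => Data.fam2
  | _ => Data.fam3

/-- Number of points in a mask. -/
noncomputable def pc (m : ℕ) : ℕ :=
  Nat.rec 0 (fun j ih => bif Nat.testBit m j then ih + 1 else ih) 112

/-- Image of a mask. -/
noncomputable def img (f : ℕ → ℕ) (m : ℕ) : ℕ :=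
  Nat.rec 0 (fun j ih => bif Nat.testBit m j then ih ||| 1 <<< f j else ih) 112

/-- A spanning tree check. -/
def treeB (f : ℕ → ℕ → ℕ) (nf : ℕ) : ℕ → List (ℕ × ℕ × ℕ) → ℕ → Bool
  | seen, [], target => Nat.beq seen target
  | seen, (w, k, z) :: rest, target =>
    Nat.blt k nf && Nat.testBit seen z && Nat.beq (f k z) w && treeB f nf (seen ||| 1 <<< w) rest target

/-- Points of a quad in a mask. -/
def cnt4 (m k : ℕ) : ℕ :=
  (bif Nat.testBit m (qpt k 0) then 1 else 0) + (bif Nat.testBit m (qpt k 1) then 1 else 0) +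
  (bif Nat.testBit m (qpt k 2) then 1 else 0) + (bif Nat.testBit m (qpt k 3) then 1 else 0)

/-- The search. -/
noncomputable def run : List ℕ → List (ℕ × ℕ) → Bool
  | [], st => st.isEmpty
  | _ :: _, [] => false
  | t :: ts, (on, off) :: st =>
    bif Nat.beq (Nat.mod t 4) 0 then
      Nat.beq (on ||| off) full && Nat.blt (Nat.div (Nat.div t 4) 162) 4 &&
        (famL (Nat.div (Nat.div t 4) 162)).contains on && Nat.beq (pc (adjM 0 &&& on)) 10 && run ts st
    else bif Nat.beq (Nat.mod t 4) 1 then
      Nat.blt (Nat.div t 4) 280 && (Nat.blt 2 (cnt4 on (Nat.div t 4)) || Nat.blt 2 (cnt4 off (Nat.div t 4))) && run ts st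
    else bif Nat.beq (Nat.mod t 4) 2 then
      Nat.blt (Nat.div t 4) 280 &&
      (bif Nat.beq (cnt4 on (Nat.div t 4)) 2 then
          run ts ((on, off ||| (qm (Nat.div t 4) &&& (full ^^^ on))) :: st)
        else Nat.beq (cnt4 off (Nat.div t 4)) 2 &&
          run ts ((on ||| (qm (Nat.div t 4) &&& (full ^^^ off)), off) :: st))
    else run ts ((on ||| 1 <<< Nat.div t 4, off) :: (on, off ||| 1 <<< Nat.div t 4) :: st)

/-- Candidates for the image of a point. -/
noncomputable def cls (v D : ℕ) : ℕ :=
  Nat.rec (full ^^^ D) (fun u ih => bif Nat.testBit D u then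
    (bif Nat.testBit (adjM v) u then ih &&& adjM u else ih &&& (full ^^^ adjM u)) else ih) 112

/-- The base check. -/
noncomputable def baseB : ℕ → List (ℕ × ℕ) → Bool
  | D, [] => Nat.beq D full
  | D, (v, k) :: rest =>
    Nat.blt v 112 && Nat.ble (pc (cls v D)) k && baseB (D ||| 1 <<< v) rest

theorem adj_ok : (PermCode.allLt 112 fun i => Nat.blt (adjM i) (2 ^ 112) && !(Nat.testBit (adjM i) i) &&
    Nat.beq (pc (adjM i)) 30 &&
    PermCode.allLt 112 fun j => Nat.testBit (adjM i) j == Nat.testBit (adjM j) i) = true := by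
  decide +kernel

theorem gens_ok : (PermCode.okb 112 (genC 0) && PermCode.okb 112 (genC 1) &&
    PermCode.allLt 2 fun k => PermCode.allLt 112 fun i => PermCode.allLt 112 fun j =>
      Nat.testBit (adjM i) j == Nat.testBit (adjM (PermCode.get (genC k) i)) (PermCode.get (genC k) j)) = true := by
  decide +kernel

theorem tree0_ok : treeB (fun k => PermCode.get (genC k)) 2 1 Data.tree0 full = true := by decide +kernel

theorem stab_ok : (Data.stabWords.all fun w => w.all (fun k => Nat.blt k 2) && Nat.beq (evN w 0) 0) = true := by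
  decide +kernel

theorem treeN_ok : treeB (fun k => evN (Data.stabWords.getD k [])) Data.stabWords.length
    (1 <<< Data.q1) Data.treeN (adjM 0) = true := by decide +kernel

theorem treeM_ok : treeB (fun k => evN (Data.stabWords.getD k [])) Data.stabWords.length
    (1 <<< Data.y0) Data.treeM (full ^^^ adjM 0 ^^^ 1) = true := by decide +kernel

theorem common_ok : (PermCode.allLt 112 fun j =>
    !(Nat.testBit (adjM 0) j) || Nat.beq (pc (adjM 0 &&& adjM j)) 2) = true := by decide +kernel

theorem quad_ok : (PermCode.allLt 280 fun k => Nat.blt (qpt k 0) (qpt k 1) && Nat.blt (qpt k 1) (qpt k 2) &&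
    Nat.blt (qpt k 2) (qpt k 3) && Nat.blt (qpt k 3) 112 &&
    Nat.beq (qm k) (1 <<< qpt k 0 ||| 1 <<< qpt k 1 ||| 1 <<< qpt k 2 ||| 1 <<< qpt k 3) &&
    PermCode.allLt 4 fun s => PermCode.allLt 4 fun t =>
      Nat.beq s t || Nat.testBit (adjM (qpt k s)) (qpt k t)) = true := by decide +kernel

theorem quad_sorted : (Data.qmL.length == 280 && decide Data.qmL.Nodup) = true := by decide +kernel

theorem quad_gen : (PermCode.allLt 2 fun k => Data.qmL.all fun m =>
    Data.qmL.contains (img (PermCode.get (genC k)) m)) = true := by decide +kernel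

theorem edge_quad : (PermCode.allLt 280 fun k => !(Nat.testBit (qm k) 0 && Nat.testBit (qm k) Data.q1)) = false := by
  decide +kernel

theorem run_ok : run Data.toks [(1 ||| 1 <<< Data.q1, 0)] = true := by decide +kernel

theorem fam_len : (PermCode.allLt 4 fun j => Nat.beq (famL j).length 162) = true := by decide +kernel

theorem fam_gen : (PermCode.allLt 4 fun j => PermCode.allLt 2 fun k => (famL j).all fun m =>
    (famL j).contains (img (PermCode.get (genC k)) m)) = true := by decide +kernel

theorem sigma_ok : (PermCode.allLt 4 fun j => PermCode.okb 112 (Data.sigmas.getD j 0) &&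
    (PermCode.allLt 112 fun i => PermCode.allLt 112 fun l => Nat.testBit (adjM i) l ==
      Nat.testBit (adjM (PermCode.get (Data.sigmas.getD j 0) i)) (PermCode.get (Data.sigmas.getD j 0) l)) &&
    (famL j).all fun m => Data.fam0.contains (img (PermCode.get (Data.sigmas.getD j 0)) m)) = true := by
  decide +kernel

theorem base_ok : baseB 0 Data.base = true := by decide +kernel

theorem base_prod : (Data.base.map Prod.snd).prod = 8 * 3265920 := by decide +kernel

end CfsgLib.McLRecog
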