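import Cfsg.Agent.Lib.McLRecog.Graph
import Cfsg.Agent.Lib.McLRecog.AutBound

/-! A rank three group of degree 275 with point stabiliser `U₄(3)` gives the standard configuration. -/

set_option autoImplicit false

namespace CfsgLib.McLRecog

open scoped Classical
open CfsgLib.Comp

variable {Ω : Type*} [Fintype Ω]

/-- The neighbours of a point among the 112. -/
noncomputable def nbrs (Γ : SimpleGraph Ω) (f : P → Ω) (x : Ω) : Finset P :=
  Finset.univ.filter fun i => Γ.Adj x (f i)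

theorem mem_nbrs {Γ : SimpleGraph Ω} {f : P → Ω} {x : Ω} {i : P} : i ∈ nbrs Γ f x ↔ Γ.Adj x (f i) := by
  simp [nbrs]

/-- The standard configuration. -/
structure Conf (G : Subgroup (Equiv.Perm Ω)) (a : Ω) where
  Γ : SimpleGraph Ω
  hG : ∀ g ∈ G, ∀ x y, Γ.Adj (g x) (g y) ↔ Γ.Adj x y
  f : P → Ω
  f_inj : Function.Injective f
  f_range : ∀ x, (∃ i, f i = x) ↔ Γ.Adj a x
  f_adj : ∀ i j, Γ.Adj (f i) (f j) ↔ madj i j
  fam : ∀ x, x ≠ a → ¬ Γ.Adj a x → Fam 0 (nbrs Γ f x)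
  fam_surj : ∀ S, Fam 0 S → ∃ x, x ≠ a ∧ ¬ Γ.Adj a x ∧ nbrs Γ f x = S
  nb_inj : ∀ x y, x ≠ a → ¬ Γ.Adj a x → y ≠ a → ¬ Γ.Adj a y → nbrs Γ f x = nbrs Γ f y → x = y
  nb_adj : ∀ x y, x ≠ a → ¬ Γ.Adj a x → y ≠ a → ¬ Γ.Adj a y → x ≠ y →
    (Γ.Adj x y ↔ (nbrs Γ f x ∩ nbrs Γ f y).card = 20)

theorem card_srg_common {Γ : SimpleGraph Ω} {x y : Ω} :
    Fintype.card (Γ.commonNeighbors x y) = (Finset.univ.filter fun z => Γ.Adj x z ∧ Γ.Adj y z).card := by
  rw [← Set.toFinset_card]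
  congr 1
  ext z
  simp only [Set.mem_toFinset, SimpleGraph.mem_commonNeighbors, Finset.mem_filter, Finset.mem_univ, true_and]

theorem exists_conf (hΩ : Fintype.card Ω = 275) (G : Subgroup (Equiv.Perm Ω)) [MulAction.IsPretransitive G Ω]
    (a b c : Ω) (φ : MulAction.stabilizer G a ≃* H0)
    (hb : (MulAction.orbit (MulAction.stabilizer G a) b).ncard = 112)
    (hc : (MulAction.orbit (MulAction.stabilizer G a) c).ncard = 162) : Nonempty (Conf G a) := by
  obtain ⟨Γ, hsrg, hinv, hA, hB⟩ := exists_srg hΩ G a b c hb hc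
  obtain ⟨f, finj, frange, fequiv⟩ := exists_equivariant φ b hb
  have hfix : ∀ s : MulAction.stabilizer G a, (s : G) • a = a := fun s => s.2
  have hfA : ∀ x, (∃ i, f i = x) ↔ Γ.Adj a x := fun x => by
    rw [hA, ← frange]; rfl
  have hsinv : ∀ (s : MulAction.stabilizer G a) x y, Γ.Adj (s • x) (s • y) ↔ Γ.Adj x y :=
    fun s x y => hinv (s : G) x y
  set N0 : Finset P := Finset.univ.filter fun j => Γ.Adj (f 0) (f j) with hN0
  have hN30 : N0.card = 30 := by
    have h := hsrg.of_adj a (f 0) ((hfA _).1 ⟨0, rfl⟩)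
    rw [card_srg_common] at h
    rw [← h, ← Finset.card_image_of_injective _ finj]
    congr 1
    ext z
    simp only [hN0, Finset.mem_image, Finset.mem_filter, Finset.mem_univ, true_and]
    constructor
    · rintro ⟨j, hj, rfl⟩; exact ⟨(hfA _).1 ⟨j, rfl⟩, hj⟩
    · rintro ⟨h1, h2⟩
      obtain ⟨j, rfl⟩ := (hfA z).2 h1
      exact ⟨j, h2, rfl⟩
  have hmodel : ∀ π ∈ H0, ∀ i j, Γ.Adj (f (π i)) (f (π j)) ↔ Γ.Adj (f i) (f j) := by
    intro π hπ i j
    have e : ∀ i, φ.symm ⟨π, hπ⟩ • f i = f (π i) := fun i => by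
      rw [fequiv, φ.apply_symm_apply]
    rw [← e, ← e, hsinv]
  have hN : N0 = setOf (adjM 0) := by
    have hz : ∀ {i}, i ∈ N0 → i ≠ 0 := fun {i} hi e => by
      subst e; simp [hN0] at hi
    have hst : ∀ π ∈ St, ∀ j, (π j ∈ N0 ↔ j ∈ N0) := fun π hπ j => by
      simp only [hN0, Finset.mem_filter, Finset.mem_univ, true_and]
      conv_lhs => rw [show (0 : P) = π 0 from hπ.2.symm]
      exact hmodel π hπ.1 0 j
    by_cases hq : pq ∈ N0
    · refine (Finset.eq_of_subset_of_card_le (fun i hi => ?_) ?_).symm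
      · obtain ⟨π, hπ, rfl⟩ := exists_stab_adj (mem_setOf.1 hi)
        exact (hst π hπ pq).2 hq
      · rw [hN30]; exact (madj_spec 0).2.2.1.ge
    · exfalso
      have hoff : ∀ i ∈ N0, ¬ madj 0 i := fun i hi h => by
        obtain ⟨π, hπ, rfl⟩ := exists_stab_adj h
        exact hq ((hst π hπ pq).1 hi)
      obtain ⟨i, hi⟩ := Finset.card_pos.1 (hN30.symm ▸ (by norm_num : 0 < 30))
      obtain ⟨π, hπ, e⟩ := exists_stab_nonadj (hz hi) (hoff i hi)
      have hy : (⟨Data.y0, by decide +kernel⟩ : P) ∈ N0 := (hst π hπ _).1 (Fin.ext e ▸ hi)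
      have hsub : (insert 0 (setOf (adjM 0)))ᶜ ⊆ N0 := by
        intro j hj
        simp only [Finset.mem_compl, Finset.mem_insert, mem_setOf, not_or] at hj
        obtain ⟨σ, hσ, e⟩ := exists_stab_nonadj hj.1 (by unfold madj; simpa using hj.2)
        exact Fin.ext e ▸ (hst σ hσ _).2 hy
      have := Finset.card_le_card hsub
      have h30 : (setOf (adjM 0)).card = 30 := (madj_spec 0).2.2.1
      have h0 : (0 : P) ∉ setOf (adjM 0) := fun h => madj_irrefl 0 (mem_setOf.1 h)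
      rw [Finset.card_compl, Finset.card_insert_of_notMem h0, h30, hN30, Fintype.card_fin] at this
      omega
  have hfadj : ∀ i j, Γ.Adj (f i) (f j) ↔ madj i j := by
    intro i j
    obtain ⟨π, hπ, rfl⟩ := exists_map_zero i
    have h1 := hmodel π hπ 0 (π⁻¹ j)
    have h2 := H0_le_autG hπ 0 (π⁻¹ j)
    have h3 : π⁻¹ j ∈ N0 ↔ π⁻¹ j ∈ setOf (adjM 0) := by rw [hN]
    simp only [hN0, Finset.mem_filter, Finset.mem_univ, true_and, mem_setOf] at h3
    rw [show π (π⁻¹ j) = j by simp] at h1 h2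
    rw [h1, h2]; exact h3
  set S : Ω → Finset P := fun x => nbrs Γ f x with hS
  have hScard : ∀ x, x ≠ a → ¬ Γ.Adj a x → ((S x).image f).card = 56 := by
    intro x hxa hx
    have h := hsrg.of_not_adj (Ne.symm hxa) hx
    rw [card_srg_common] at h
    rw [← h]
    congr 1
    ext z
    simp only [hS, mem_nbrs, Finset.mem_image, Finset.mem_filter, Finset.mem_univ, true_and]
    constructor
    · rintro ⟨j, hj, rfl⟩; exact ⟨(hfA _).1 ⟨j, rfl⟩, hj⟩
    · rintro ⟨h1, h2⟩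
      obtain ⟨j, rfl⟩ := (hfA z).2 h1
      exact ⟨j, h2, rfl⟩
  have hHem : ∀ x, x ≠ a → ¬ Γ.Adj a x → Hem (S x) := by
    intro x hxa hx k hk
    set K : Finset Ω := insert a ((qset k).image f)
    have haK : a ∉ (qset k).image f := by
      intro h
      obtain ⟨i, -, e⟩ := Finset.mem_image.1 h
      exact ((hfA a).1 ⟨i, e⟩).ne rfl
    have hK : K.card = 5 := by
      rw [Finset.card_insert_of_notMem haK, Finset.card_image_of_injective _ finj, quad_card hk]
    have hclq : ∀ u ∈ K, ∀ v ∈ K, u ≠ v → Γ.Adj u v := by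
      intro u hu v hv huv
      rcases Finset.mem_insert.1 hu with e1 | hu' <;> rcases Finset.mem_insert.1 hv with e2 | hv'
      · exact absurd (e1.trans e2.symm) huv
      · obtain ⟨j, -, rfl⟩ := Finset.mem_image.1 hv'; rw [e1]; exact (hfA _).1 ⟨j, rfl⟩
      · obtain ⟨j, -, rfl⟩ := Finset.mem_image.1 hu'; rw [e2]; exact ((hfA _).1 ⟨j, rfl⟩).symm
      · obtain ⟨i, hi, rfl⟩ := Finset.mem_image.1 hu'
        obtain ⟨j, hj, rfl⟩ := Finset.mem_image.1 hv'
        exact (hfadj i j).2 (quad_clique hk hi hj fun e => huv (e ▸ rfl))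
    have hxK : x ∉ K := by
      rw [Finset.mem_insert, not_or]
      refine ⟨hxa, fun h => ?_⟩
      obtain ⟨i, -, rfl⟩ := Finset.mem_image.1 h
      exact hx ((hfA _).1 ⟨i, rfl⟩)
    have h2 := clique_two hsrg hK hclq hxK
    rw [Finset.filter_insert, if_neg (fun h => hx h.symm), Finset.filter_image,
      Finset.card_image_of_injective _ finj] at h2
    rw [← h2]
    congr 1
    ext i
    simp [hS, mem_nbrs]
  have hten : ∀ x, x ≠ a → ¬ Γ.Adj a x → ∀ z ∈ (S x).image f,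
      (((S x).image f).filter (Γ.Adj z)).card = 10 := by
    intro x hxa hx z hz
    obtain ⟨i, hi, rfl⟩ := Finset.mem_image.1 hz
    rw [Finset.filter_image, Finset.card_image_of_injective _ finj, ← (hem_spec (hHem x hxa hx) hi).1]
    congr 1
    ext j
    simp [mem_setOf, hfadj, madj, and_comm]
  have hinter : ∀ x y, x ≠ a → ¬ Γ.Adj a x → y ≠ a → ¬ Γ.Adj a y → x ≠ y →
      (S x ∩ S y).card = if Γ.Adj y x then 20 else 32 := by
    intro x y hxa hx hya hy hxy
    rw [← inter_count hsrg (hScard x hxa hx) (fun z hz => ?_) (fun z hz => ?_) (hten x hxa hx) hxa hx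
      (Ne.symm hxy) hya hy, Finset.filter_image, Finset.card_image_of_injective _ finj]
    · congr 1
      ext i
      simp [hS, mem_nbrs]
    · obtain ⟨i, -, rfl⟩ := Finset.mem_image.1 hz; exact (hfA _).1 ⟨i, rfl⟩
    · obtain ⟨i, hi, rfl⟩ := Finset.mem_image.1 hz; exact mem_nbrs.1 hi
  have hinj : ∀ x y, x ≠ a → ¬ Γ.Adj a x → y ≠ a → ¬ Γ.Adj a y → S x = S y → x = y := by
    intro x y hxa hx hya hy e
    by_contra hxy
    have h := hinter x y hxa hx hya hy hxy
    rw [← e, Finset.inter_self] at h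
    have := hScard x hxa hx
    rw [Finset.card_image_of_injective _ finj] at this
    split_ifs at h <;> omega
  have hBc : c ≠ a ∧ ¬ Γ.Adj a c := by
    constructor
    · rintro rfl
      rw [show MulAction.orbit (MulAction.stabilizer G c) c = {c} from Set.eq_singleton_iff_unique_mem.2
        ⟨MulAction.mem_orbit_self c, fun z ⟨s, hs⟩ => hs.symm.trans s.2⟩, Set.ncard_singleton] at hc
      omega
    · intro h
      have := MulAction.orbit_eq_iff.2 ((hA c).1 h)
      rw [this, hb] at hc; omega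
  have hfam : ∃ j < 4, Fam j (S c) := by
    obtain ⟨k, hk, -⟩ := exists_quad_base
    obtain ⟨i, hi⟩ := Finset.card_pos.1 ((hHem c hBc.1 hBc.2 k hk).symm ▸ (by norm_num : 0 < 2))
    exact (hem_spec (hHem c hBc.1 hBc.2) (Finset.mem_inter.1 hi).2).2
  obtain ⟨j, hj, hfam⟩ := hfam
  have hsmul : ∀ (s : MulAction.stabilizer G a) x, S (s • x) = (S x).image (φ s).1 := by
    intro s x
    ext i
    simp only [hS, mem_nbrs, Finset.mem_image]
    constructor
    · intro h
      refine ⟨(φ s).1⁻¹ i, ?_, by simp⟩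
      rw [← hsinv s, fequiv]
      simpa using h
    · rintro ⟨i, hi, rfl⟩
      rw [← fequiv, hsinv]; exact hi
  have hall : ∀ x, x ≠ a → ¬ Γ.Adj a x → Fam j (S x) := by
    intro x hxa hx
    obtain ⟨s, rfl⟩ := hB x hxa hx
    show Fam j (S (s • c))
    rw [hsmul]
    exact fam_image hj (φ s).2 hfam
  have hsig := PermCode.allLt_spec sigma_ok j hj
  simp only [Bool.and_eq_true] at hsig
  obtain ⟨⟨hok, hadj⟩, hfam0⟩ := hsig
  set τ : Equiv.Perm P := PermCode.val 112 (Data.sigmas.getD j 0) with hτ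
  have hτ' : ∀ i : P, (τ i : ℕ) = PermCode.get (Data.sigmas.getD j 0) i :=
    PermCode.val_apply (PermCode.ok_of_okb hok)
  have hnb : ∀ x, nbrs Γ (fun i => f (τ⁻¹ i)) x = (S x).image τ := by
    intro x
    ext i
    simp only [hS, mem_nbrs, Finset.mem_image]
    exact ⟨fun h => ⟨τ⁻¹ i, h, by simp⟩, fun ⟨l, hl, e⟩ => by rw [← e]; simpa using hl⟩
  have hFam0 : ∀ x, x ≠ a → ¬ Γ.Adj a x → Fam 0 ((S x).image τ) := by
    intro x hxa hx
    obtain ⟨m, hm, he⟩ := hall x hxa hx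
    have := List.all_eq_true.1 hfam0 m hm
    rw [List.contains_iff_mem] at this
    exact ⟨_, this, by rw [setOf_img τ hτ', he]⟩
  have himg : ∀ x y, (S x).image τ = (S y).image τ → S x = S y := fun x y e =>
    Finset.image_injective τ.injective e
  refine ⟨⟨Γ, fun g hg x y => hinv ⟨g, hg⟩ x y, fun i => f (τ⁻¹ i), finj.comp τ⁻¹.injective, ?_, ?_, ?_, ?_, ?_, ?_⟩⟩
  · intro x
    rw [← hfA]
    exact ⟨fun ⟨i, h⟩ => ⟨_, h⟩, fun ⟨i, h⟩ => ⟨τ i, by simpa using h⟩⟩
  · intro i l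
    rw [hfadj]
    have h := beq_iff_eq.1 (PermCode.allLt_spec (PermCode.allLt_spec hadj (τ⁻¹ i) (τ⁻¹ i).2) (τ⁻¹ l) (τ⁻¹ l).2)
    rw [madj, madj, h, ← hτ', ← hτ']
    simp
  · intro x hxa hx; rw [hnb]; exact hFam0 x hxa hx
  · intro T hT
    have hBset : {x | x ≠ a ∧ ¬ Γ.Adj a x} = MulAction.orbit (MulAction.stabilizer G a) c := by
      ext x
      refine ⟨fun h => hB x h.1 h.2, ?_⟩
      rintro ⟨s, rfl⟩
      refine ⟨fun e => hBc.1 (smul_left_cancel s (e.trans (hfix s).symm)), fun h => hBc.2 ?_⟩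
      rw [← hsinv s]
      have ha : s • a = a := hfix s
      rwa [ha]
    have himage : (fun x => (S x).image τ) '' {x | x ≠ a ∧ ¬ Γ.Adj a x} = {U | Fam 0 U} := by
      refine Set.eq_of_subset_of_ncard_le (by rintro _ ⟨x, ⟨h1, h2⟩, rfl⟩; exact hFam0 x h1 h2) ?_ (finite_fam 0)
      rw [Set.InjOn.ncard_image fun x hx y hy e => hinj x y hx.1 hx.2 hy.1 hy.2 (himg x y e), hBset, hc]
      exact fam_ncard (by norm_num)
    obtain ⟨x, hx, rfl⟩ := himage.symm.subset hT
    exact ⟨x, hx.1, hx.2, hnb x⟩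
  · intro x y h1 h2 h3 h4 e
    rw [hnb, hnb] at e
    exact hinj x y h1 h2 h3 h4 (himg x y e)
  · intro x y h1 h2 h3 h4 hxy
    rw [hnb, hnb, ← Finset.image_inter _ _ τ.injective, Finset.card_image_of_injective _ τ.injective,
      hinter x y h1 h2 h3 h4 hxy, Γ.adj_comm]
    split_ifs with h <;> simp [h]

end CfsgLib.McLRecog
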