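import Cfsg.Agent.Lib.McLRecog.Action
import Mathlib.Combinatorics.SimpleGraph.StronglyRegular
import Mathlib.Combinatorics.SimpleGraph.AdjMatrix
import Mathlib.Algebra.Group.Subgroup.Pointwise
import Mathlib.LinearAlgebra.Matrix.DotProduct
import Mathlib.Tactic.Module

/-! The graph of a rank three group of degree 275 with subdegrees 1, 112, 162. -/

set_option autoImplicit false

namespace CfsgLib.McLRecog

open Matrix
open scoped Classical

variable {Ω : Type*} [Fintype Ω]

/-- The parameters. -/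
theorem params {Γ : SimpleGraph Ω} {l m : ℕ} (h : Γ.IsSRGWith 275 112 l m) : l = 30 ∧ m = 56 := by
  have hne : Nonempty Ω := Fintype.card_pos_iff.1 (by rw [h.card]; norm_num)
  obtain ⟨x⟩ := hne
  obtain ⟨y, hy⟩ : ∃ y, Γ.Adj x y := by
    have : 0 < Γ.degree x := by rw [h.regular.degree_eq]; norm_num
    exact (Γ.degree_pos_iff_exists_adj x).1 this
  have hl : l < 112 := by
    have := hy.card_commonNeighbors_lt_degree
    rwa [h.of_adj x y hy, h.regular.degree_eq] at this
  have hp := SimpleGraph.IsSRGWith.param_eq Γ h (by norm_num)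
  have hcases : (l = 111 ∧ m = 0) ∨ (l = 30 ∧ m = 56) := by omega
  rcases hcases with ⟨rfl, rfl⟩ | h'
  · exfalso
    have htrans : ∀ u v w, Γ.Adj u v → Γ.Adj v w → u ≠ w → Γ.Adj u w := by
      intro u v w huv hvw huw
      by_contra hn
      have := h.of_not_adj huw hn
      rw [Fintype.card_eq_zero_iff] at this
      exact this.elim ⟨v, huv, hvw.symm⟩
    let S : Setoid Ω := ⟨fun u v => u = v ∨ Γ.Adj u v,
      fun _ => Or.inl rfl, fun {u v} e => e.elim (fun e => Or.inl e.symm) (fun e => Or.inr e.symm),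
      fun {u v w} e1 e2 => by
        rcases e1 with rfl | e1
        · exact e2
        rcases e2 with rfl | e2
        · exact Or.inr e1
        by_cases huw : u = w
        · exact Or.inl huw
        · exact Or.inr (htrans u v w e1 e2 huw)⟩
    have hfib : ∀ q : Quotient S,
        (Finset.univ.filter fun v => Quotient.mk S v = q).card = 113 := by
      intro q
      induction q using Quotient.inductionOn with
      | h u =>
        have e : (Finset.univ.filter fun v => Quotient.mk S v = Quotient.mk S u) =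
            insert u (Γ.neighborFinset u) := by
          ext v
          simp only [Finset.mem_filter, Finset.mem_univ, true_and, Finset.mem_insert,
            SimpleGraph.mem_neighborFinset, Quotient.eq]
          exact ⟨fun h => h.elim Or.inl (fun h => Or.inr h.symm),
            fun h => h.elim Or.inl (fun h => Or.inr h.symm)⟩
        rw [e, Finset.card_insert_of_notMem (by simp), SimpleGraph.card_neighborFinset_eq_degree,
          h.regular.degree_eq]
    have hc : Fintype.card Ω = ∑ q : Quotient S,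
        (Finset.univ.filter fun v => Quotient.mk S v = q).card :=
      Finset.card_eq_sum_card_fiberwise fun v _ => Finset.mem_univ _
    rw [Finset.sum_congr rfl (fun q _ => hfib q), Finset.sum_const, smul_eq_mul, h.card] at hc
    omega
  · exact h'

/-- The orbital graph. -/
theorem exists_srg (hΩ : Fintype.card Ω = 275)
    (G : Subgroup (Equiv.Perm Ω)) [MulAction.IsPretransitive G Ω] (a b c : Ω)
    (hb : (MulAction.orbit (MulAction.stabilizer G a) b).ncard = 112)
    (hc : (MulAction.orbit (MulAction.stabilizer G a) c).ncard = 162) :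
    ∃ (Γ : SimpleGraph Ω), Γ.IsSRGWith 275 112 30 56 ∧
      (∀ (g : G) (x y : Ω), Γ.Adj (g • x) (g • y) ↔ Γ.Adj x y) ∧
      (∀ z, Γ.Adj a z ↔ z ∈ MulAction.orbit (MulAction.stabilizer G a) b) ∧
      ∀ z, z ≠ a → ¬ Γ.Adj a z → z ∈ MulAction.orbit (MulAction.stabilizer G a) c := by
  set Ob := MulAction.orbit (MulAction.stabilizer G a) b with hOb
  set Oc := MulAction.orbit (MulAction.stabilizer G a) c with hOc
  have hfix : ∀ s : MulAction.stabilizer G a, (s : G) • a = a := fun s => s.2
  have horba : MulAction.orbit (MulAction.stabilizer G a) a = {a} := by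
    ext z
    exact ⟨fun ⟨s, hs⟩ => hs.symm.trans (hfix s), fun (hz : z = a) => by rw [hz]; exact MulAction.mem_orbit_self a⟩
  have haOb : a ∉ Ob := fun h => by
    have := MulAction.orbit_eq_iff.2 h
    rw [horba] at this
    rw [hOb, ← this, Set.ncard_singleton] at hb
    omega
  have haOc : a ∉ Oc := fun h => by
    have := MulAction.orbit_eq_iff.2 h
    rw [horba] at this
    rw [hOc, ← this, Set.ncard_singleton] at hc
    omega
  have hdisj : Disjoint Ob Oc := Set.disjoint_left.2 fun z h1 h2 => by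
    have e : Ob = Oc := (MulAction.orbit_eq_iff.2 h1).symm.trans (MulAction.orbit_eq_iff.2 h2)
    rw [e, hc] at hb
    omega
  have hcover : ∀ z, z ≠ a → z ∈ Ob ∨ z ∈ Oc := by
    intro z hz
    have hsub : Ob ∪ Oc ⊆ {a}ᶜ := by
      rintro w (hw | hw) (rfl : w = a)
      exacts [haOb hw, haOc hw]
    have heq : Ob ∪ Oc = {a}ᶜ := by
      refine Set.eq_of_subset_of_ncard_le hsub ?_ (Set.toFinite _)
      rw [Set.ncard_union_eq hdisj (Set.toFinite _) (Set.toFinite _), hb, hc, Set.ncard_compl,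
        Set.ncard_singleton, Nat.card_eq_fintype_card, hΩ]
    have hm : z ∈ ({a}ᶜ : Set Ω) := hz
    rwa [← heq] at hm
  let R : Ω → Ω → Prop := fun x y => ∃ g : G, g • a = x ∧ g • b = y
  have hRsmul : ∀ (g : G) x y, R x y → R (g • x) (g • y) := fun g x y ⟨k, h1, h2⟩ =>
    ⟨g * k, by rw [mul_smul, h1], by rw [mul_smul, h2]⟩
  have hRiff : ∀ (g : G) x y, R (g • x) (g • y) ↔ R x y := fun g x y =>
    ⟨fun h => by simpa [inv_smul_smul] using hRsmul g⁻¹ _ _ h, hRsmul g x y⟩
  have hout : ∀ z, R a z ↔ z ∈ Ob := fun z =>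
    ⟨fun ⟨g, h1, h2⟩ => ⟨⟨g, h1⟩, h2⟩, fun ⟨s, hs⟩ => ⟨s, hfix s, hs⟩⟩
  have houtc : ∀ x, ({z | R x z} : Set Ω).ncard = 112 := by
    intro x
    obtain ⟨g, rfl⟩ := MulAction.exists_smul_eq G a x
    have e : {z | R (g • a) z} = (fun z => g • z) '' Ob := by
      ext z
      constructor
      · intro hz
        refine ⟨g⁻¹ • z, (hout _).1 ?_, smul_inv_smul g z⟩
        simpa [inv_smul_smul] using hRsmul g⁻¹ _ _ hz
      · rintro ⟨w, hw, rfl⟩
        exact hRsmul g _ _ ((hout w).2 hw)
    rw [e, Set.ncard_image_of_injective _ (MulAction.injective g), hb]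
  have hinc : ∀ y, ({z | R z y} : Set Ω).ncard = ({z | R z a} : Set Ω).ncard := by
    intro y
    obtain ⟨g, rfl⟩ := MulAction.exists_smul_eq G a y
    have e : {z | R z (g • a)} = (fun z => g • z) '' {z | R z a} := by
      ext z
      constructor
      · intro hz
        refine ⟨g⁻¹ • z, ?_, smul_inv_smul g z⟩
        simpa [inv_smul_smul] using hRsmul g⁻¹ _ _ hz
      · rintro ⟨w, hw, rfl⟩
        exact hRsmul g _ _ hw
    rw [e, Set.ncard_image_of_injective _ (MulAction.injective g)]
  have hin112 : ({z | R z a} : Set Ω).ncard = 112 := by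
    have h1 : ∑ x : Ω, (Finset.univ.bipartiteAbove R x).card =
        ∑ y : Ω, (Finset.univ.bipartiteBelow R y).card :=
      Finset.sum_card_bipartiteAbove_eq_sum_card_bipartiteBelow R
    have e1 : ∀ x, (Finset.univ.bipartiteAbove R x).card = 112 := fun x => by
      rw [← houtc x, Set.ncard_eq_toFinset_card']
      congr 1
      ext z
      simp [Finset.bipartiteAbove]
    have e2 : ∀ y, (Finset.univ.bipartiteBelow R y).card = ({z | R z a} : Set Ω).ncard := fun y => by
      rw [← hinc y, Set.ncard_eq_toFinset_card']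
      congr 1
      ext z
      simp [Finset.bipartiteBelow]
    rw [Finset.sum_congr rfl (fun x _ => e1 x), Finset.sum_congr rfl (fun y _ => e2 y),
      Finset.sum_const, Finset.sum_const, Finset.card_univ, hΩ, smul_eq_mul, smul_eq_mul] at h1
    omega
  have hin : ∀ z, R z a → z ∈ Ob := by
    intro z hz
    have hza : z ≠ a := by
      rintro rfl
      exact haOb ((hout _).1 hz)
    refine (hcover z hza).resolve_right fun hzc => ?_
    have hsub : Oc ⊆ {w | R w a} := by
      intro w hw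
      rw [hOc, ← MulAction.orbit_eq_iff.2 hzc] at hw
      obtain ⟨s, rfl⟩ := hw
      have := hRsmul (s : G) z a hz
      rwa [hfix s] at this
    have := Set.ncard_le_ncard hsub (Set.toFinite _)
    omega
  have hsymm : ∀ x y, R x y → R y x := by
    intro x y h
    obtain ⟨g, rfl⟩ := MulAction.exists_smul_eq G a y
    have h' : R (g⁻¹ • x) a := by simpa [inv_smul_smul] using hRsmul g⁻¹ _ _ h
    have := hRsmul g _ _ ((hout _).2 (hin _ h'))
    simpa [smul_inv_smul] using this
  have hirr : ∀ x, ¬ R x x := by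
    rintro x ⟨g, h1, h2⟩
    exact haOb (by
      have : b = a := smul_left_cancel g (h2.trans h1.symm)
      rw [hOb, this]; exact MulAction.mem_orbit_self a)
  let Γ : SimpleGraph Ω := { Adj := R, symm := ⟨hsymm⟩, loopless := ⟨hirr⟩ }
  have hiff : ∀ (g : G) (x y : Ω), Γ.Adj (g • x) (g • y) ↔ Γ.Adj x y := hRiff
  letI : DecidableRel Γ.Adj := Classical.decRel _
  have hreg : Γ.IsRegularOfDegree 112 := by
    intro x
    rw [← SimpleGraph.card_neighborSet_eq_degree, ← Nat.card_eq_fintype_card,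
      Nat.card_coe_set_eq]
    exact houtc x
  have hcn : ∀ (g : G) x y, Fintype.card (Γ.commonNeighbors (g • x) (g • y)) =
      Fintype.card (Γ.commonNeighbors x y) := by
    intro g x y
    refine Fintype.card_congr (Equiv.subtypeEquiv (MulAction.toPerm g⁻¹) fun z => ?_)
    show Γ.Adj (g • x) z ∧ Γ.Adj (g • y) z ↔ Γ.Adj x (g⁻¹ • z) ∧ Γ.Adj y (g⁻¹ • z)
    rw [← hiff g x, ← hiff g y, smul_inv_smul]
  set l := Fintype.card (Γ.commonNeighbors a b) with hl
  set m := Fintype.card (Γ.commonNeighbors a c) with hm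
  have hsrg : Γ.IsSRGWith 275 112 l m :=
    { card := hΩ
      regular := hreg
      of_adj := fun x y ⟨g, h1, h2⟩ => by rw [← h1, ← h2, hcn]
      of_not_adj := fun x y hxy hn => by
        obtain ⟨g, rfl⟩ := MulAction.exists_smul_eq G a x
        have h1 : g⁻¹ • y ≠ a := fun e => hxy (by rw [← e, smul_inv_smul])
        have h2 : g⁻¹ • y ∈ Oc := (hcover _ h1).resolve_left fun h => hn (by
          have := hRsmul g _ _ ((hout _).2 h)
          rwa [smul_inv_smul] at this)
        obtain ⟨s, hs⟩ := h2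
        have hy : g • ((s : G) • c) = y := by
          rw [show (s : G) • c = g⁻¹ • y from hs, smul_inv_smul]
        rw [← hy, hm, ← hcn (g * (s : G)) a c, mul_smul, mul_smul, hfix s] }
  obtain ⟨hl0, hm6⟩ := params hsrg
  rw [hl0, hm6] at hsrg
  exact ⟨Γ, hsrg, hiff, hout, fun z hz hn => (hcover z hz).resolve_left fun h => hn ((hout z).2 h)⟩

section Kernel

variable {Γ : SimpleGraph Ω}

/-- The integral matrix with entries 12, -3 and 2. -/
noncomputable def wmat (Γ : SimpleGraph Ω) : Matrix Ω Ω ℤ :=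
  (10 : ℤ) • (1 : Matrix Ω Ω ℤ) - (5 : ℤ) • Γ.adjMatrix ℤ + (2 : ℤ) • Matrix.of fun _ _ => (1 : ℤ)

theorem wmat_sq (h : Γ.IsSRGWith 275 112 30 56) : wmat Γ * wmat Γ = (150 : ℤ) • wmat Γ := by
  have hdeg : ∀ i, ∑ j, Γ.adjMatrix ℤ i j = 112 := fun i => by
    have h0 := SimpleGraph.adjMatrix_mulVec_const_apply (G := Γ) (a := (1 : ℤ)) (v := i)
    simp [Matrix.mulVec, dotProduct, h.regular.degree_eq] at h0 ⊢
    exact_mod_cast h0
  set A := Γ.adjMatrix ℤ with hA
  set J : Matrix Ω Ω ℤ := Matrix.of fun _ _ => (1 : ℤ) with hJ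
  have hAJ : A * J = (112 : ℤ) • J := by
    ext i j; simp [Matrix.mul_apply, hJ, hdeg]
  have hJA : J * A = (112 : ℤ) • J := by
    ext i j
    have : ∑ k, A k j = 112 := by
      rw [← hdeg j]; exact Finset.sum_congr rfl fun k _ => by simp [hA, SimpleGraph.adj_comm]
    simp [Matrix.mul_apply, hJ, this]
  have hJJ : J * J = (275 : ℤ) • J := by ext i j; simp [Matrix.mul_apply, hJ, h.card]
  have hmat := h.matrix_eq (α := ℤ)
  have hsum := Γ.one_add_adjMatrix_add_compl_adjMatrix_eq_of_one (α := ℤ)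
  have hC : Γᶜ.adjMatrix ℤ = J - 1 - A := by
    show Γᶜ.adjMatrix ℤ = Matrix.of 1 - 1 - A
    rw [← hsum, SimpleGraph.compl_adjMatrix_eq_adjMatrix_compl]; abel
  rw [hC, pow_two, ← hA] at hmat
  show ((10 : ℤ) • 1 - (5 : ℤ) • A + (2 : ℤ) • J) * ((10 : ℤ) • 1 - (5 : ℤ) • A + (2 : ℤ) • J) = _
  simp only [wmat, ← hA, ← hJ, mul_sub, sub_mul, mul_add, add_mul, smul_mul_assoc, mul_smul_comm,
    smul_smul, mul_one, one_mul, hAJ, hJA, hJJ, hmat, smul_add, smul_sub]
  module

theorem wmat_symm : (wmat Γ)ᵀ = wmat Γ := by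
  ext i j
  simp only [wmat, Matrix.transpose_apply, Matrix.add_apply, Matrix.sub_apply, Matrix.smul_apply, Matrix.of_apply,
    SimpleGraph.adjMatrix_apply, Matrix.one_apply, Γ.adj_comm j i, eq_comm (a := j) (b := i)]

/-- A vector whose image vanishes on its support is in the kernel. -/
theorem kernel_of_support (h : Γ.IsSRGWith 275 112 30 56) (z : Ω → ℤ)
    (hz : ∀ x, z x ≠ 0 → (wmat Γ *ᵥ z) x = 0) (x : Ω) : (wmat Γ *ᵥ z) x = 0 := by
  have h0 : z ⬝ᵥ (wmat Γ *ᵥ z) = 0 := Finset.sum_eq_zero fun y _ => by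
    by_cases hy : z y = 0
    · rw [hy, zero_mul]
    · rw [hz y hy, mul_zero]
  have h1 : (wmat Γ *ᵥ z) ⬝ᵥ (wmat Γ *ᵥ z) = 0 := by
    rw [Matrix.dotProduct_mulVec, ← Matrix.mulVec_transpose, wmat_symm, Matrix.mulVec_mulVec,
      wmat_sq h, Matrix.smul_mulVec, smul_dotProduct, dotProduct_comm, h0, smul_zero]
  exact congrFun (dotProduct_self_eq_zero.1 h1) x

/-- An entry. -/
theorem wmat_apply (x y : Ω) : wmat Γ x y =
    10 * (if x = y then 1 else 0) - 5 * (if Γ.Adj x y then 1 else 0) + 2 := by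
  simp only [wmat, Matrix.add_apply, Matrix.sub_apply, Matrix.smul_apply, Matrix.of_apply,
    SimpleGraph.adjMatrix_apply, Matrix.one_apply, smul_eq_mul, mul_one]

theorem sum_wmat (T : Finset Ω) (x : Ω) : ∑ y ∈ T, wmat Γ x y =
    10 * (if x ∈ T then 1 else 0) - 5 * ((T.filter (Γ.Adj x)).card : ℤ) + 2 * T.card := by
  simp only [wmat_apply, Finset.sum_add_distrib, Finset.sum_sub_distrib, ← Finset.mul_sum,
    Finset.sum_boole, Finset.sum_const, nsmul_eq_mul]
  rw [Finset.filter_eq]
  by_cases hx : x ∈ T <;> simp [hx] <;> ring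

/-- A five-clique meets every outside neighbourhood twice. -/
theorem clique_two (h : Γ.IsSRGWith 275 112 30 56) {K : Finset Ω} (hK : K.card = 5)
    (hclq : ∀ x ∈ K, ∀ y ∈ K, x ≠ y → Γ.Adj x y) {x : Ω} (hx : x ∉ K) :
    (K.filter (Γ.Adj x)).card = 2 := by
  set z : Ω → ℤ := fun y => if y ∈ K then 1 else 0
  have hmul : ∀ y, (wmat Γ *ᵥ z) y = ∑ w ∈ K, wmat Γ y w := fun y => by
    simp [Matrix.mulVec, dotProduct, z, Finset.sum_ite_mem]
  have := kernel_of_support h z (fun y hy => ?_) x
  · rw [hmul, sum_wmat, if_neg hx, hK] at this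
    omega
  · have hy' : y ∈ K := by
      by_contra hn; exact hy (if_neg hn)
    have e : K.filter (Γ.Adj y) = K.erase y := by
      ext w
      simp only [Finset.mem_filter, Finset.mem_erase]
      exact ⟨fun ⟨h1, h2⟩ => ⟨h2.ne.symm, h1⟩, fun ⟨h1, h2⟩ => ⟨h2, hclq y hy' w h2 (Ne.symm h1)⟩⟩
    rw [hmul, sum_wmat, if_pos hy', hK, e, Finset.card_erase_of_mem hy', hK]
    norm_num

/-- Two points outside the neighbourhood of `a`. -/
theorem inter_count (h : Γ.IsSRGWith 275 112 30 56) {a c d : Ω} {T : Finset Ω} (hT : T.card = 56)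
    (hTa : ∀ x ∈ T, Γ.Adj a x) (hTc : ∀ x ∈ T, Γ.Adj c x)
    (hten : ∀ x ∈ T, (T.filter (Γ.Adj x)).card = 10) (hca : c ≠ a) (hac : ¬ Γ.Adj a c)
    (hdc : d ≠ c) (hda : d ≠ a) (had : ¬ Γ.Adj a d) :
    (T.filter (Γ.Adj d)).card = if Γ.Adj d c then 20 else 32 := by
  have haT : a ∉ T := fun h => (hTa a h).ne rfl
  have hcT : c ∉ T := fun h => (hTc c h).ne rfl
  set z : Ω → ℤ := fun y => (if y ∈ T then 1 else 0) + 12 * (if y = a then 1 else 0) +
    12 * (if y = c then 1 else 0)
  have hmul : ∀ y, (wmat Γ *ᵥ z) y = (∑ w ∈ T, wmat Γ y w) + 12 * wmat Γ y a + 12 * wmat Γ y c :=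
    fun y => by
      simp [Matrix.mulVec, dotProduct, z, mul_add, Finset.sum_add_distrib, Finset.sum_ite_mem]
      ring
  have hfa : T.filter (Γ.Adj a) = T := Finset.filter_true_of_mem hTa
  have hfc : T.filter (Γ.Adj c) = T := Finset.filter_true_of_mem hTc
  have := kernel_of_support h z (fun y hy => ?_) d
  · have hdT : d ∉ T := fun h => had (hTa d h)
    rw [hmul, sum_wmat, if_neg hdT, hT, wmat_apply, wmat_apply, if_neg hda, if_neg hdc,
      if_neg (fun h => had h.symm)] at this
    by_cases hadj : Γ.Adj d c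
    · rw [if_pos hadj] at this ⊢; omega
    · rw [if_neg hadj] at this ⊢; omega
  · rw [hmul, sum_wmat, hT]
    by_cases hyT : y ∈ T
    · rw [wmat_apply, wmat_apply, if_pos hyT, hten y hyT,
        if_neg (show y ≠ a from fun e => haT (e ▸ hyT)), if_neg (show y ≠ c from fun e => hcT (e ▸ hyT)),
        if_pos (hTa y hyT).symm, if_pos (hTc y hyT).symm]
      norm_num
    by_cases hya : y = a
    · subst hya
      rw [wmat_apply, wmat_apply, if_neg hyT, hfa, hT, if_pos rfl, if_neg (Ne.symm hca), if_neg (Γ.irrefl (v := y)),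
        if_neg hac]
      norm_num
    by_cases hyc : y = c
    · subst hyc
      rw [wmat_apply, wmat_apply, if_neg hyT, hfc, hT, if_neg hya, if_pos rfl,
        if_neg (Γ.irrefl (v := y)), if_neg (fun h => hac h.symm)]
      norm_num
    exact absurd (by simp [z, hyT, hya, hyc]) hy

end Kernel

end CfsgLib.McLRecog
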