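import Cfsg.Agent.Lib.McLRecog.Unique
import Cfsg.Agent.Lib.FusionCertN.McL

/-! Recognition of McL by its rank three action on 275 points. -/

set_option autoImplicit false

namespace CfsgLib.McLRecog

open Cfsg CfsgLib CfsgLib.Leech.Stab CfsgLib.FusionCertN.LeechRep
open CfsgLib.Leech.Triangle.U43 (triStab)

theorem exists_model : ∃ (Ω : Type) (_ : Fintype Ω) (G : Subgroup (Equiv.Perm Ω))
    (_ : MulAction.IsPretransitive G Ω) (a b c : Ω), Fintype.card Ω = 275 ∧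
    Nonempty (MulAction.stabilizer G a ≃* H0) ∧
    (MulAction.orbit (MulAction.stabilizer G a) b).ncard = 112 ∧
    (MulAction.orbit (MulAction.stabilizer G a) c).ncard = 162 ∧ Nonempty (Spor.McL ≃* G) := by
  classical
  obtain ⟨hu, hv, -, -, hx, hvu, -, hxu, hxv, -, -⟩ := pt_dots
  have hvs := (norm_sub_iff hu hv).2 hvu
  have hxm : ptX ∈ mclSet ptU ptV := ⟨hx, (norm_sub_iff hu hx).2 hxu, (dot_comm _ _).trans hxv⟩
  have hset : ∀ y, y ∈ mcL275Cert.set ↔ y ∈ mclSet ptU ptV := fun y => by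
    have := smul_mem_mcl hu (one_smul Co0 ptU) (one_smul Co0 ptV) y
    rwa [one_smul] at this
  obtain ⟨-, htr⟩ := mcl_transitive hu ⟨hv, hvs⟩
  haveI : Fintype Pts := Fintype.ofEquiv _ ptEquiv
  have hΩ : Fintype.card Pts = 275 := by rw [← Fintype.card_congr ptEquiv, Fintype.card_fin]
  let φ : mclGroup →* Equiv.Perm Pts := MulAction.toPermHom mclGroup Pts
  have hφ : Function.Injective φ := fun g h e => ρ_injective (by
    show (Equiv.permCongrHom ptEquiv.symm) (φ g) = (Equiv.permCongrHom ptEquiv.symm) (φ h)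
    rw [e])
  let a : Pts := ⟨ptX, (hset _).2 hxm⟩
  have hlift : ∀ (g : Co0), g • ptU = ptU → g • ptV = ptV → ∀ (y z : Pts), g • y.1 = z.1 →
      ∃ k : φ.range, k • y = z := fun g h1 h2 y z h3 =>
    ⟨⟨φ ⟨g, h1, h2⟩, ⟨_, rfl⟩⟩, Subtype.ext h3⟩
  have htrans : MulAction.IsPretransitive φ.range Pts := ⟨fun y z => by
    obtain ⟨g, g1, g2, g3⟩ := htr y.1 ((hset _).1 y.2) z.1 ((hset _).1 z.2)
    exact hlift g g1 g2 y z g3⟩
  obtain ⟨h112, h162, hr3⟩ := mcl_rank_three hu ⟨hv, hvs⟩ hxm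
  obtain ⟨b0, hb0⟩ := Set.nonempty_of_ncard_ne_zero (s := {y | y ∈ mclSet ptU ptV ∧
    dotInt (ptX : GolayPt → ℤ) (y : GolayPt → ℤ) = 8}) (by omega)
  obtain ⟨c0, hc0⟩ := Set.nonempty_of_ncard_ne_zero (s := {y | y ∈ mclSet ptU ptV ∧ y ≠ ptX ∧
    dotInt (ptX : GolayPt → ℤ) (y : GolayPt → ℤ) = 16}) (by omega)
  have hb0x : b0 ≠ ptX := fun e => by
    have h := hb0.2
    rw [e, dotInt_self, hx] at h
    norm_num at h
  have horb : ∀ (z0 : Pts) (d : ℤ) (S : Set leechLattice), z0.1 ≠ ptX →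
      dotInt (ptX : GolayPt → ℤ) ((z0.1 : leechLattice) : GolayPt → ℤ) = d →
      (∀ y, y ∈ S ↔ y ∈ mclSet ptU ptV ∧ y ≠ ptX ∧ dotInt (ptX : GolayPt → ℤ) (y : GolayPt → ℤ) = d) →
      (MulAction.orbit (MulAction.stabilizer φ.range a) z0).ncard = S.ncard := by
    intro z0 d S hz hd hS
    rw [← Set.ncard_image_of_injective _ Subtype.val_injective]
    congr 1
    ext y
    constructor
    · rintro ⟨_, ⟨⟨⟨_, k, rfl⟩, hs⟩, rfl⟩, rfl⟩
      have hk : (k : Co0) • ptX = ptX := congrArg Subtype.val hs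
      refine (hS _).2 ⟨(hset _).1 (smul_mem_pts k z0.2), fun e => hz ?_, ?_⟩
      · have e' : (k : Co0) • z0.1 = (k : Co0) • ptX := e.trans hk.symm
        exact MulAction.injective (k : Co0) e'
      · show dotInt (ptX : GolayPt → ℤ) (((k : Co0) • z0.1 : leechLattice) : GolayPt → ℤ) = d
        conv_lhs => rw [← hk, Leech.dotInt_smul]
        exact hd
    · intro hy
      obtain ⟨h1, h2, h3⟩ := (hS y).1 hy
      obtain ⟨g, g1, g2, g3, g4⟩ := hr3 z0.1 ((hset _).1 z0.2) y h1 hz h2 (hd.trans h3.symm)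
      exact ⟨⟨y, (hset _).2 h1⟩, ⟨⟨⟨φ ⟨g, g1, g2⟩, ⟨_, rfl⟩⟩, Subtype.ext g3⟩, Subtype.ext g4⟩, rfl⟩
  have hstab : Nonempty (MulAction.stabilizer φ.range a ≃* triStab ptU ptV ptX) := by
    let j : triStab ptU ptV ptX →* MulAction.stabilizer φ.range a :=
      { toFun := fun g => ⟨⟨φ ⟨g.1, g.2.1.1, g.2.1.2⟩, ⟨_, rfl⟩⟩, Subtype.ext g.2.2⟩
        map_one' := Subtype.ext (Subtype.ext (map_one φ))
        map_mul' := fun g h => Subtype.ext (Subtype.ext (map_mul φ ⟨g.1, g.2.1.1, g.2.1.2⟩ ⟨h.1, h.2.1.1, h.2.1.2⟩)) }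
    refine ⟨(MulEquiv.ofBijective j ⟨fun g h e => ?_, ?_⟩).symm⟩
    · have := hφ (congrArg (fun z : MulAction.stabilizer φ.range a => (z.1 : Equiv.Perm Pts)) e)
      exact Subtype.ext (congrArg (fun z : mclGroup => (z : Co0)) this)
    · rintro ⟨⟨_, k, rfl⟩, hs⟩
      exact ⟨⟨k.1, ⟨k.2.1, k.2.2⟩, congrArg Subtype.val hs⟩, rfl⟩
  obtain ⟨es⟩ := hstab
  obtain ⟨e1⟩ := CfsgLib.Leech.Triangle.U43.nonempty_equiv
  obtain ⟨e2⟩ := nonempty_H0_equiv
  obtain ⟨e3⟩ := FusionCertN.McL.nonempty_mcl_equiv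
  refine ⟨Pts, inferInstance, φ.range, htrans, a, ⟨b0, (hset _).2 hb0.1⟩, ⟨c0, (hset _).2 hc0.1⟩, hΩ,
    ⟨es.trans (e1.trans e2)⟩, ?_, ?_, ⟨e3.trans (MonoidHom.ofInjective hφ)⟩⟩
  · refine (horb _ 8 _ hb0x hb0.2 fun y => ?_).trans h112
    refine ⟨fun h => ⟨h.1, fun e => ?_, h.2⟩, fun h => ⟨h.1, h.2.2⟩⟩
    have h2 := h.2
    rw [e, dotInt_self, hx] at h2
    norm_num at h2
  · exact (horb _ 16 _ hc0.2.1 hc0.2.2 fun y => Iff.rfl).trans h162

/-- Recognition of McL by its rank three action. -/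
theorem isoMcL_of_rank_three {Ω : Type*} [Fintype Ω] (hΩ : Fintype.card Ω = 275)
    (G : Subgroup (Equiv.Perm Ω)) [MulAction.IsPretransitive G Ω] (a : Ω) (K : Type) [Field K] [Fintype K]
    (hK : Fintype.card K = 9) (e : MulAction.stabilizer G a ≃* Cfsg.PSU 4 K 3) (b c : Ω)
    (hb : (MulAction.orbit (MulAction.stabilizer G a) b).ncard = 112)
    (hc : (MulAction.orbit (MulAction.stabilizer G a) c).ncard = 162) : Spor.IsoMcL G := by
  obtain ⟨eK⟩ := nonempty_psu_equiv K hK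
  obtain ⟨Ω', _, G', _, a', b', c', hΩ', ⟨φ'⟩, hb', hc', ⟨e'⟩⟩ := exists_model
  obtain ⟨e''⟩ := nonempty_equiv hΩ G a b c (e.trans eK) hb hc hΩ' G' a' b' c' φ' hb' hc'
  exact ⟨e''.trans e'.symm⟩

end CfsgLib.McLRecog
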