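import Cfsg.Agent.Lib.McLRecog.Checks
import Cfsg.Agent.Lib.Leech.Triangle.U43Cert

/-! The group `U₄(3)` on 112 points: the graph, the quads and the hemisystems. -/

set_option autoImplicit false

namespace CfsgLib.McLRecog

open CfsgLib.Comp
open CfsgLib.Leech.Triangle.U43 (u43Gens u43_card)

/-- Points. -/
abbrev P : Type := Fin 112

/-- Adjacency. -/
def madj (i j : P) : Prop := (adjM i).testBit j = true

/-- The set of a mask. -/
def setOf (m : ℕ) : Finset P := Finset.univ.filter fun i : P => m.testBit i = true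

theorem mem_setOf {m : ℕ} {i : P} : i ∈ setOf m ↔ m.testBit i = true := by simp [setOf]

theorem setOf_and (a b : ℕ) : setOf (a &&& b) = setOf a ∩ setOf b := by
  ext i; simp [mem_setOf, Nat.testBit_and]

theorem setOf_or (a b : ℕ) : setOf (a ||| b) = setOf a ∪ setOf b := by
  ext i; simp [mem_setOf, Nat.testBit_or]

theorem testBit_full (i : P) : full.testBit i = true := by
  rw [full, Nat.testBit_two_pow_sub_one]; simpa using i.2

theorem setOf_xor_full (a : ℕ) : setOf (full ^^^ a) = (setOf a)ᶜ := by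
  ext i; simp [mem_setOf, Nat.testBit_xor, testBit_full]

theorem setOf_full : setOf full = Finset.univ := by
  ext i; simp [mem_setOf, testBit_full]

theorem setOf_zero : setOf 0 = ∅ := by ext i; simp [mem_setOf]

theorem setOf_bit {v : ℕ} (hv : v < 112) : setOf (1 <<< v) = {⟨v, hv⟩} := by
  ext i; simp [mem_setOf, Nat.one_shiftLeft, Nat.testBit_two_pow, Fin.ext_iff, eq_comm]

theorem pc_eq (m : ℕ) : pc m = (setOf m).card := by
  have h : ∀ k, k ≤ 112 → Nat.rec (motive := fun _ => ℕ) 0
      (fun j ih => bif Nat.testBit m j then ih + 1 else ih) k =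
        ((setOf m).filter fun i : P => (i : ℕ) < k).card := by
    intro k
    induction k with
    | zero => simp
    | succ k ih =>
      intro hk
      show (bif Nat.testBit m k then _ + 1 else _) = _
      rw [ih (by omega)]
      cases hb : Nat.testBit m k
      · simp only [cond_false]
        congr 1
        ext i
        simp only [Finset.mem_filter, mem_setOf]
        refine and_congr_right fun hi => ⟨fun h => by omega, fun h => ?_⟩
        rcases Nat.lt_succ_iff_lt_or_eq.1 h with h | h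
        · exact h
        · rw [h, hb] at hi; exact absurd hi (by simp)
      · simp only [cond_true]
        rw [← Finset.card_insert_of_notMem (a := (⟨k, by omega⟩ : P)) (by simp)]
        congr 1
        ext i
        simp only [Finset.mem_insert, Finset.mem_filter, mem_setOf, Fin.ext_iff]
        constructor
        · rintro (h | ⟨h1, h2⟩)
          · exact ⟨by rw [h]; exact hb, by omega⟩
          · exact ⟨h1, by omega⟩
        · rintro ⟨h1, h2⟩
          by_cases h : (i : ℕ) = k
          · exact Or.inl h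
          · exact Or.inr ⟨h1, by omega⟩
  rw [pc, h 112 le_rfl]
  congr 1
  exact Finset.filter_true_of_mem fun i _ => i.2

theorem testBit_img (f : ℕ → ℕ) (m y : ℕ) :
    (img f m).testBit y = true ↔ ∃ i : P, m.testBit i = true ∧ f i = y := by
  have h : ∀ k, k ≤ 112 → ((Nat.rec (motive := fun _ => ℕ) 0
      (fun j ih => bif Nat.testBit m j then ih ||| 1 <<< f j else ih) k).testBit y = true ↔
        ∃ i : P, (i : ℕ) < k ∧ m.testBit i = true ∧ f i = y) := by
    intro k
    induction k with
    | zero => simp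
    | succ k ih =>
      intro hk
      show ((bif Nat.testBit m k then _ ||| 1 <<< f k else _ : ℕ)).testBit y = true ↔ _
      cases hb : Nat.testBit m k
      · simp only [cond_false]
        rw [ih (by omega)]
        constructor
        · rintro ⟨i, h1, h2⟩; exact ⟨i, by omega, h2⟩
        · rintro ⟨i, h1, h2, h3⟩
          refine ⟨i, ?_, h2, h3⟩
          rcases Nat.lt_succ_iff_lt_or_eq.1 h1 with h | h
          · exact h
          · rw [h, hb] at h2; exact absurd h2 (by simp)
      · simp only [cond_true]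
        rw [Nat.testBit_or, Bool.or_eq_true, ih (by omega), Nat.one_shiftLeft, Nat.testBit_two_pow,
          decide_eq_true_eq]
        constructor
        · rintro (⟨i, h1, h2⟩ | h)
          · exact ⟨i, by omega, h2⟩
          · exact ⟨⟨k, by omega⟩, by simp, hb, h⟩
        · rintro ⟨i, h1, h2, h3⟩
          rcases Nat.lt_succ_iff_lt_or_eq.1 h1 with h | h
          · exact Or.inl ⟨i, h, h2, h3⟩
          · exact Or.inr (h ▸ h3)
  rw [img, h 112 le_rfl]
  exact ⟨fun ⟨i, _, h⟩ => ⟨i, h⟩, fun ⟨i, h⟩ => ⟨i, i.2, h⟩⟩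

theorem setOf_img {f : ℕ → ℕ} (π : Equiv.Perm P) (hf : ∀ i : P, (π i : ℕ) = f i) (m : ℕ) :
    setOf (img f m) = (setOf m).image π := by
  ext y
  simp only [mem_setOf, Finset.mem_image, testBit_img]
  refine exists_congr fun i => and_congr_right fun _ => ?_
  rw [← hf, Fin.ext_iff]

theorem madj_spec (i : P) : adjM i < 2 ^ 112 ∧ ¬ madj i i ∧ (setOf (adjM i)).card = 30 ∧
    ∀ j : P, madj i j ↔ madj j i := by
  have h := PermCode.allLt_spec adj_ok i i.2
  simp only [Bool.and_eq_true, Nat.blt_eq, Nat.beq_eq, Bool.not_eq_true', beq_iff_eq] at h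
  refine ⟨h.1.1.1, by simp [madj, h.1.1.2], by rw [← pc_eq]; exact h.1.2, fun j => ?_⟩
  have := beq_iff_eq.1 (PermCode.allLt_spec h.2 j j.2)
  simp [madj, this]

theorem madj_comm (i j : P) : madj i j ↔ madj j i := (madj_spec i).2.2.2 j

theorem madj_irrefl (i : P) : ¬ madj i i := (madj_spec i).2.1

/-- A generator. -/
noncomputable def gen (k : ℕ) : Equiv.Perm P := PermCode.val 112 (genC k)

/-- The group. -/
noncomputable abbrev H0 : Subgroup (Equiv.Perm P) := PermCode.span 112 u43Gens

theorem card_H0 : Nat.card H0 = 3265920 := u43_card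

theorem gen_okb : ∀ k < 2, PermCode.okb 112 (genC k) = true := by
  have h := gens_ok
  simp only [Bool.and_eq_true] at h
  intro k hk
  interval_cases k
  exacts [h.1.1, h.1.2]

theorem gen_apply {k : ℕ} (hk : k < 2) (i : P) : ((gen k i : P) : ℕ) = PermCode.get (genC k) i :=
  PermCode.val_apply (PermCode.ok_of_okb (gen_okb k hk)) i

theorem gens_length : u43Gens.length = 2 := by decide +kernel

theorem H0_eq : H0 = Subgroup.closure (gen '' {k | k < 2}) := by
  show Subgroup.closure _ = _
  congr 1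
  ext π
  constructor
  · rintro ⟨s, hs, rfl⟩
    obtain ⟨k, hk, rfl⟩ := List.getElem_of_mem hs
    exact ⟨k, gens_length ▸ hk, by rw [gen, genC, List.getD_eq_getElem _ _ hk]⟩
  · rintro ⟨k, hk, rfl⟩
    have hk' : k < u43Gens.length := gens_length.symm ▸ hk
    exact ⟨u43Gens[k], List.getElem_mem hk', by rw [gen, genC, List.getD_eq_getElem _ _ hk']⟩

theorem gen_mem {k : ℕ} (hk : k < 2) : gen k ∈ H0 := by
  rw [H0_eq]; exact Subgroup.subset_closure ⟨k, hk, rfl⟩

/-- A property closed under composition holds on the group if it holds for the generators. -/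
theorem H0_induction {p : Equiv.Perm P → Prop} (h1 : p 1) (hgen : ∀ k < 2, p (gen k))
    (hmul : ∀ a b, p a → p b → p (a * b)) {π : Equiv.Perm P} (h : π ∈ H0) : p π := by
  rw [H0_eq, ← Subgroup.mem_toSubmonoid, Subgroup.closure_toSubmonoid_of_finite] at h
  induction h using Submonoid.closure_induction with
  | mem x hx => obtain ⟨k, hk, rfl⟩ := hx; exact hgen k hk
  | one => exact h1
  | mul a b _ _ ha hb => exact hmul a b ha hb

/-- Automorphisms of the graph. -/
def autG : Subgroup (Equiv.Perm P) where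
  carrier := {π | ∀ i j, madj (π i) (π j) ↔ madj i j}
  one_mem' := fun _ _ => Iff.rfl
  mul_mem' := fun {a b} ha hb i j => (ha (b i) (b j)).trans (hb i j)
  inv_mem' := fun {a} ha i j => by simpa using (ha (a⁻¹ i) (a⁻¹ j)).symm

theorem H0_le_autG : H0 ≤ autG := by
  intro π hπ
  refine H0_induction (p := fun π => π ∈ autG) (one_mem _) (fun k hk i j => ?_) (fun _ _ => mul_mem) hπ
  have h := gens_ok
  simp only [Bool.and_eq_true] at h
  have := beq_iff_eq.1 (PermCode.allLt_spec (PermCode.allLt_spec (PermCode.allLt_spec h.2 k hk) i i.2) j j.2)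
  rw [madj, madj, gen_apply hk, gen_apply hk, this]

theorem evN_nil (i : ℕ) : evN [] i = i := rfl

theorem evN_mem : ∀ w : List ℕ, (∀ k ∈ w, k < 2) →
    ∃ π ∈ H0, ∀ i : P, (π i : ℕ) = evN w i
  | [], _ => ⟨1, one_mem _, fun _ => rfl⟩
  | k :: w, h => by
    obtain ⟨π, hπ, he⟩ := evN_mem w fun x hx => h x (List.mem_cons_of_mem _ hx)
    refine ⟨gen k * π, mul_mem (gen_mem (h k List.mem_cons_self)) hπ, fun i => ?_⟩
    rw [Equiv.Perm.mul_apply, gen_apply (h k List.mem_cons_self), he]
    rfl

theorem tree_sound (K : Subgroup (Equiv.Perm P)) (x : P) (f : ℕ → ℕ → ℕ) (nf : ℕ)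
    (hf : ∀ k < nf, ∃ π ∈ K, ∀ i : P, (π i : ℕ) = f k i) :
    ∀ (l : List (ℕ × ℕ × ℕ)) (seen target : ℕ),
      (∀ y, seen.testBit y = true → ∃ π ∈ K, (π x : ℕ) = y) →
      treeB f nf seen l target = true → ∀ y, target.testBit y = true → ∃ π ∈ K, (π x : ℕ) = y
  | [], seen, target, hs, h => by
    rw [treeB, Nat.beq_eq] at h
    exact h ▸ hs
  | (w, k, z) :: rest, seen, target, hs, h => by
    simp only [treeB, Bool.and_eq_true, Nat.blt_eq, Nat.beq_eq] at h
    obtain ⟨⟨⟨hk, hz⟩, hw⟩, hr⟩ := h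
    refine tree_sound K x f nf hf rest _ target (fun y hy => ?_) hr
    rw [Nat.testBit_or, Bool.or_eq_true, Nat.one_shiftLeft, Nat.testBit_two_pow, decide_eq_true_eq] at hy
    rcases hy with hy | rfl
    · exact hs y hy
    · obtain ⟨π, hπ, he⟩ := hs z hz
      obtain ⟨σ, hσ, hs'⟩ := hf k hk
      exact ⟨σ * π, mul_mem hσ hπ, by rw [Equiv.Perm.mul_apply, hs', he, hw]⟩

/-- The first neighbour of the first point. -/
def pq : P := ⟨Data.q1, by decide +kernel⟩

theorem exists_map_zero (i : P) : ∃ π ∈ H0, π 0 = i := by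
  obtain ⟨π, hπ, h⟩ := tree_sound H0 0 _ 2 (fun k hk => ⟨gen k, gen_mem hk, gen_apply hk⟩) Data.tree0 1 full
    (fun y hy => ⟨1, one_mem _, by
      rw [show (1 : ℕ) = 2 ^ 0 from rfl, Nat.testBit_two_pow, decide_eq_true_eq] at hy
      subst hy; rfl⟩) tree0_ok i (testBit_full i)
  exact ⟨π, hπ, Fin.ext h⟩

/-- The stabiliser of the first point. -/
noncomputable def St : Subgroup (Equiv.Perm P) := H0 ⊓ MulAction.stabilizer (Equiv.Perm P) (0 : P)

theorem stabWord_mem {k : ℕ} (hk : k < Data.stabWords.length) :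
    ∃ π ∈ St, ∀ i : P, (π i : ℕ) = evN (Data.stabWords.getD k []) i := by
  have h := List.all_eq_true.1 stab_ok _ (List.getElem_mem hk)
  simp only [Bool.and_eq_true, List.all_eq_true, Nat.blt_eq, Nat.beq_eq] at h
  rw [List.getD_eq_getElem _ _ hk]
  obtain ⟨π, hπ, he⟩ := evN_mem _ h.1
  exact ⟨π, ⟨hπ, Fin.ext ((he 0).trans h.2)⟩, he⟩

theorem exists_stab_adj {i : P} (hi : madj 0 i) : ∃ π ∈ St, π pq = i := by
  obtain ⟨π, hπ, h⟩ := tree_sound St pq _ _ (fun k hk => stabWord_mem hk) Data.treeN
    (1 <<< Data.q1) (adjM 0) (fun y hy => ⟨1, one_mem _, by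
      rw [Nat.one_shiftLeft, Nat.testBit_two_pow, decide_eq_true_eq] at hy
      exact hy⟩) treeN_ok i hi
  exact ⟨π, hπ, Fin.ext h⟩

theorem exists_stab_nonadj {i : P} (h0 : i ≠ 0) (hi : ¬ madj 0 i) :
    ∃ π ∈ St, ((π ⟨Data.y0, by decide +kernel⟩ : P) : ℕ) = i := by
  refine tree_sound St _ _ _ (fun k hk => stabWord_mem hk) Data.treeM
    (1 <<< Data.y0) (full ^^^ adjM 0 ^^^ 1) (fun y hy => ⟨1, one_mem _, by
      rw [Nat.one_shiftLeft, Nat.testBit_two_pow, decide_eq_true_eq] at hy
      exact hy⟩) treeM_ok i ?_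
  have h1 : (1 : ℕ).testBit i = false := by
    rw [show (1 : ℕ) = 2 ^ 0 from rfl, Nat.testBit_two_pow, decide_eq_false_iff_not]
    exact fun h => h0 (Fin.ext h.symm)
  rw [Nat.testBit_xor, Nat.testBit_xor, testBit_full, h1]
  simp only [madj] at hi
  simp [show (adjM 0).testBit i = false from by simpa using hi]

/-- The group is transitive on ordered edges. -/
theorem exists_map_edge {i j : P} (h : madj i j) : ∃ π ∈ H0, π 0 = i ∧ π pq = j := by
  obtain ⟨π, hπ, rfl⟩ := exists_map_zero i
  have h' : madj 0 (π⁻¹ j) := by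
    rw [← H0_le_autG hπ 0 (π⁻¹ j)]; simpa using h
  obtain ⟨σ, hσ, hs⟩ := exists_stab_adj h'
  refine ⟨π * σ, mul_mem hπ hσ.1, ?_, by rw [Equiv.Perm.mul_apply, hs]; simp⟩
  rw [Equiv.Perm.mul_apply, show σ 0 = 0 from hσ.2]

end CfsgLib.McLRecog
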