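import Cfsg.Agent.Lib.McLRecog.Model
import Cfsg.Agent.Lib.Leech.Triangle.U43
import Cfsg.Agent.Lib.Leech.Triangle.FieldTransfer
import Mathlib.FieldTheory.Finite.GaloisField

/-! The group on 112 points is `PSU₄(3)`. -/

set_option autoImplicit false

namespace CfsgLib.McLRecog

open Cfsg CfsgLib CfsgLib.Leech CfsgLib.Leech.Stab CfsgLib.Leech.Triangle CfsgLib.Leech.Triangle.U43

theorem nonempty_H0_equiv : Nonempty (Cfsg.PSU 4 K9 3 ≃* H0) := by
  classical
  haveI : Finite (triStab ptU ptV ptX) :=
    Nat.finite_of_card_ne_zero (by rw [card_tri]; norm_num)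
  have hle : grp ≤ triStab ptU ptV ptX := inf_le_left.trans inf_le_left
  haveI : Finite grp := Finite.of_injective _ (Subgroup.inclusion_injective hle)
  have hgrp : Nat.card grp ≤ 3265920 := by
    rw [← card_tri]; exact Nat.card_le_card_of_injective _ (Subgroup.inclusion_injective hle)
  choose gn hg112 hg280 using exists_act
  have hspan : H0 ≤ act112.range := by
    rw [H0, Comp.PermCode.span, Subgroup.closure_le]
    rintro _ ⟨s, hs, rfl⟩
    obtain ⟨k, hk, rfl⟩ := List.getElem_of_mem hs
    have hk2 : k < 2 := gens_length ▸ hk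
    exact ⟨gn ⟨k, hk2⟩, (hg112 _).trans (by simp only [perm112, List.getD_eq_getElem _ _ hk])⟩
  have hbig : 3265920 ≤ Nat.card act112.range :=
    card_H0.symm.le.trans (Nat.card_le_card_of_injective _ (Subgroup.inclusion_injective hspan))
  have hr : Nat.card act112.range ≤ Nat.card grp :=
    Nat.card_le_card_of_surjective _ act112.rangeRestrict_surjective
  have hcard : Nat.card grp = 3265920 := le_antisymm hgrp (hbig.trans hr)
  have hrange : Nat.card act112.range = Nat.card grp := le_antisymm hr (hcard ▸ hbig)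
  have heq : grp = triStab ptU ptV ptX :=
    Subgroup.eq_of_le_of_card_ge hle (by rw [card_tri, hcard])
  have hR : H0 = act112.range :=
    Subgroup.eq_of_le_of_card_ge hspan (by rw [hrange, hcard, card_H0])
  have hb : Function.Bijective act112.rangeRestrict :=
    (Nat.bijective_iff_surjective_and_card _).2 ⟨act112.rangeRestrict_surjective, hrange.symm⟩
  obtain ⟨e⟩ := U43.nonempty_equiv
  exact ⟨(e.symm.trans (MulEquiv.subgroupCongr heq.symm)).trans
    ((MulEquiv.ofBijective act112.rangeRestrict hb).trans (MulEquiv.subgroupCongr hR.symm))⟩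

theorem nonempty_psu_equiv (K : Type) [Field K] [Fintype K] (hK : Fintype.card K = 9) :
    Nonempty (Cfsg.PSU 4 K 3 ≃* H0) := by
  obtain ⟨e⟩ := nonempty_H0_equiv
  exact ⟨(psuEquivRing (FiniteField.ringEquivOfCardEq (hK.trans K9.card_K9.symm))).trans e⟩

theorem isSimple_H0 : IsSimpleGroup H0 := by
  obtain ⟨e⟩ := nonempty_H0_equiv
  have : IsSimpleGroup (Cfsg.PSU 4 K9 3) :=
    CfsgLib.Classical.Herm.isSimpleGroup_psu (q := 3) K9.card_K9 (n := 4) (by norm_num) (by norm_num)
  exact e.symm.isSimpleGroup

end CfsgLib.McLRecog
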