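import Cfsg.Agent.Lib.McLRecog.Model

/-! The 280 quads and the enumeration of the hemisystems. -/

set_option autoImplicit false

namespace CfsgLib.McLRecog

open CfsgLib.Comp

/-- A quad. -/
def qset (k : ℕ) : Finset P := setOf (qm k)

/-- A hemisystem meets every quad twice. -/
def Hem (S : Finset P) : Prop := ∀ k < 280, (qset k ∩ S).card = 2

theorem quad_spec {k : ℕ} (hk : k < 280) : ∃ a b c d : P, qset k = {a, b, c, d} ∧
    a < b ∧ b < c ∧ c < d ∧ (a : ℕ) = qpt k 0 ∧ (b : ℕ) = qpt k 1 ∧ (c : ℕ) = qpt k 2 ∧ (d : ℕ) = qpt k 3 ∧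
    madj a b ∧ madj a c ∧ madj a d ∧ madj b c ∧ madj b d ∧ madj c d := by
  have h := PermCode.allLt_spec quad_ok k hk
  simp only [Bool.and_eq_true, Nat.blt_eq, Nat.beq_eq] at h
  obtain ⟨⟨⟨⟨⟨h1, h2⟩, h3⟩, h4⟩, h5⟩, h6⟩ := h
  have hadj : ∀ s t, s < 4 → t < 4 → s ≠ t → (adjM (qpt k s)).testBit (qpt k t) = true := by
    intro s t hs ht hst
    have := PermCode.allLt_spec (PermCode.allLt_spec h6 s hs) t ht
    simpa [Nat.beq_eq, hst] using this
  refine ⟨⟨qpt k 0, by omega⟩, ⟨qpt k 1, by omega⟩, ⟨qpt k 2, by omega⟩, ⟨qpt k 3, h4⟩, ?_, h1, h2, h3,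
    rfl, rfl, rfl, rfl, hadj 0 1 (by omega) (by omega) (by omega), hadj 0 2 (by omega) (by omega) (by omega),
    hadj 0 3 (by omega) (by omega) (by omega), hadj 1 2 (by omega) (by omega) (by omega),
    hadj 1 3 (by omega) (by omega) (by omega), hadj 2 3 (by omega) (by omega) (by omega)⟩
  rw [qset, h5, setOf_or, setOf_or, setOf_or, setOf_bit (by omega), setOf_bit (by omega),
    setOf_bit (by omega), setOf_bit h4]
  ext x; simp [or_assoc]

theorem quad_clique {k : ℕ} (hk : k < 280) {i j : P} (hi : i ∈ qset k) (hj : j ∈ qset k) (hij : i ≠ j) :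
    madj i j := by
  obtain ⟨a, b, c, d, he, -, -, -, -, -, -, -, h1, h2, h3, h4, h5, h6⟩ := quad_spec hk
  simp only [he, Finset.mem_insert, Finset.mem_singleton] at hi hj
  rcases hi with rfl | rfl | rfl | rfl <;> rcases hj with rfl | rfl | rfl | rfl <;>
    first
      | exact absurd rfl hij
      | assumption
      | exact (madj_comm _ _).1 (by assumption)

theorem quad_card {k : ℕ} (hk : k < 280) : (qset k).card = 4 := by
  obtain ⟨a, b, c, d, he, h1, h2, h3, -⟩ := quad_spec hk
  rw [he, Finset.card_eq_four]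
  exact ⟨a, b, c, d, h1.ne, (h1.trans h2).ne, (h1.trans (h2.trans h3)).ne, h2.ne, (h2.trans h3).ne, h3.ne, rfl⟩

theorem cnt4_eq {k : ℕ} (hk : k < 280) (m : ℕ) : cnt4 m k = (qset k ∩ setOf m).card := by
  obtain ⟨a, b, c, d, he, h1, h2, h3, ea, eb, ec, ed, -⟩ := quad_spec hk
  have : qset k ∩ setOf m = ({a, b, c, d} : Finset P).filter (fun i => i ∈ setOf m) := by
    rw [← he, Finset.filter_mem_eq_inter]
  rw [this, Finset.card_filter, Finset.sum_insert (by
      simp [h1.ne, (h1.trans h2).ne, (h1.trans (h2.trans h3)).ne]),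
    Finset.sum_insert (by simp [h2.ne, (h2.trans h3).ne]), Finset.sum_insert (by simp [h3.ne]),
    Finset.sum_singleton]
  simp only [cnt4, mem_setOf, ← ea, ← eb, ← ec, ← ed]
  cases m.testBit a <;> cases m.testBit b <;> cases m.testBit c <;> cases m.testBit d <;> simp

theorem qm_eq {k : ℕ} (hk : k < 280) : qm k = Data.qmL[k]'(by
    have := quad_sorted; simp only [Bool.and_eq_true, beq_iff_eq] at this; omega) := by
  rw [qm, List.getD_eq_getElem]

theorem qset_injective {k l : ℕ} (hk : k < 280) (hl : l < 280) (h : qset k = qset l) : k = l := by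
  have hlen := quad_sorted
  simp only [Bool.and_eq_true, beq_iff_eq, decide_eq_true_eq] at hlen
  have hm : qm k = qm l := by
    refine Nat.eq_of_testBit_eq fun y => ?_
    by_cases hy : y < 112
    · have := Finset.ext_iff.1 h ⟨y, hy⟩
      simp only [qset, mem_setOf] at this
      exact Bool.eq_iff_iff.2 this
    · have hb : ∀ k, k < 280 → (qm k).testBit y = false := fun k hk => by
        have h := PermCode.allLt_spec quad_ok k hk
        simp only [Bool.and_eq_true, Nat.blt_eq, Nat.beq_eq] at h
        obtain ⟨⟨⟨⟨⟨h1, h2⟩, h3⟩, h4⟩, h5⟩, -⟩ := h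
        rw [h5]
        simp only [Nat.testBit_or, Nat.one_shiftLeft, Nat.testBit_two_pow, Bool.or_eq_false_iff,
          decide_eq_false_iff_not]
        omega
      rw [hb k hk, hb l hl]
  rw [qm_eq hk, qm_eq hl] at hm
  exact hlen.2.getElem_inj_iff.1 hm

theorem quad_image {π : Equiv.Perm P} (hπ : π ∈ H0) {k : ℕ} (hk : k < 280) :
    ∃ l < 280, (qset k).image π = qset l := by
  refine H0_induction (p := fun π => ∀ k, k < 280 → ∃ l < 280, (qset k).image π = qset l)
    (fun k hk => ⟨k, hk, by simp⟩) (fun g hg k hk => ?_) (fun a b ha hb k hk => ?_) hπ k hk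
  · have h := List.all_eq_true.1 (PermCode.allLt_spec quad_gen g hg) _ (List.getElem_mem
      (by have := quad_sorted; simp only [Bool.and_eq_true, beq_iff_eq] at this; omega : k < Data.qmL.length))
    rw [List.contains_iff_mem] at h
    obtain ⟨l, hl, he⟩ := List.getElem_of_mem h
    have hl' : l < 280 := by
      have := quad_sorted; simp only [Bool.and_eq_true, beq_iff_eq] at this; omega
    refine ⟨l, hl', ?_⟩
    rw [qset, qset, qm_eq hk, qm_eq hl', he, setOf_img (gen g) (gen_apply hg)]
  · obtain ⟨l, hl, he⟩ := hb k hk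
    obtain ⟨l', hl', he'⟩ := ha l hl
    exact ⟨l', hl', by rw [← he', ← he, Finset.image_image, Equiv.Perm.coe_mul]⟩

theorem exists_quad_base : ∃ k < 280, (0 : P) ∈ qset k ∧ pq ∈ qset k := by
  have h := edge_quad
  by_contra hne
  push Not at hne
  refine absurd (PermCode.allLt_of fun k hk => ?_) (by rw [h]; simp)
  cases hb : (qm k).testBit 0
  · rfl
  · have := hne k hk (mem_setOf.2 hb)
    simp only [qset, mem_setOf, Bool.not_eq_true] at this
    simp [show (qm k).testBit Data.q1 = false from this]

/-- Every edge lies in a quad. -/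
theorem exists_quad {i j : P} (h : madj i j) : ∃ k < 280, i ∈ qset k ∧ j ∈ qset k := by
  obtain ⟨k, hk, h1, h2⟩ := exists_quad_base
  obtain ⟨π, hπ, rfl, rfl⟩ := exists_map_edge h
  obtain ⟨l, hl, he⟩ := quad_image hπ hk
  exact ⟨l, hl, he ▸ Finset.mem_image_of_mem π h1, he ▸ Finset.mem_image_of_mem π h2⟩

theorem hem_image {π : Equiv.Perm P} (hπ : π ∈ H0) {S : Finset P} (hS : Hem S) : Hem (S.image π) := by
  intro k hk
  obtain ⟨l, hl, he⟩ := quad_image (inv_mem hπ) hk
  have : qset k = (qset l).image π := by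
    rw [← he, Finset.image_image]
    ext x; simp
  rw [this, ← Finset.image_inter _ _ π.injective, Finset.card_image_of_injective _ π.injective, hS l hl]

/-- The members of a family. -/
def Fam (j : ℕ) (S : Finset P) : Prop := ∃ m ∈ famL j, setOf m = S

theorem fam_image {j : ℕ} (hj : j < 4) {π : Equiv.Perm P} (hπ : π ∈ H0) {S : Finset P} (hS : Fam j S) :
    Fam j (S.image π) := by
  refine H0_induction (p := fun π => ∀ S, Fam j S → Fam j (S.image π))
    (fun S hS => by simpa using hS) (fun k hk S ⟨m, hm, he⟩ => ?_) (fun a b ha hb S hS => ?_) hπ S hS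
  · have h := List.all_eq_true.1 (PermCode.allLt_spec (PermCode.allLt_spec fam_gen j hj) k hk) m hm
    rw [List.contains_iff_mem] at h
    exact ⟨_, h, by rw [setOf_img (gen k) (gen_apply hk), he]⟩
  · rw [Equiv.Perm.coe_mul, ← Finset.image_image]; exact ha _ (hb _ hS)

theorem fam_ncard {j : ℕ} (hj : j < 4) : {S | Fam j S}.ncard ≤ 162 := by
  have h := Nat.eq_of_beq_eq_true (PermCode.allLt_spec fam_len j hj)
  have e : {S | Fam j S} = ↑((famL j).map setOf).toFinset := by
    ext S; simp [Fam]
  rw [e, Set.ncard_coe_finset]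
  exact (List.toFinset_card_le _).trans (by rw [List.length_map, h])

theorem finite_fam (j : ℕ) : {S | Fam j S}.Finite := Set.toFinite _

/-- Compatibility of a hemisystem with a state of the search. -/
def Compat (S : Finset P) (on off : ℕ) : Prop := setOf on ⊆ S ∧ Disjoint (setOf off) S

theorem force_eq {q A S : Finset P} (hA : A ⊆ S) (hqA : (q ∩ A).card = 2) (hqS : (q ∩ S).card = 2)
    {x : P} (hx : x ∈ q) (hxS : x ∈ S) : x ∈ A := by
  have h : q ∩ A = q ∩ S :=
    Finset.eq_of_subset_of_card_le (Finset.inter_subset_inter_left hA) (by omega)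
  exact Finset.mem_of_mem_inter_right (h ▸ Finset.mem_inter.2 ⟨hx, hxS⟩)

theorem run_sound : ∀ (ts : List ℕ) (st : List (ℕ × ℕ)), run ts st = true →
    ∀ e ∈ st, ∀ S, Hem S → Compat S e.1 e.2 →
      ∃ j < 4, Fam j S ∧ (setOf (adjM 0) ∩ S).card = 10
  | [], st, h, e, he, _, _, _ => by
    simp only [run, List.isEmpty_iff] at h; simp [h] at he
  | _ :: _, [], _, e, he, _, _, _ => absurd he (by simp)
  | t :: ts, (on, off) :: st, h, e, he, S, hS, hc => by
    have hcompl : ∀ {k}, k < 280 → (qset k ∩ Sᶜ).card = 2 := fun {k} hk => by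
      have := Finset.card_sdiff_add_card_inter (qset k) S
      rw [hS k hk, quad_card hk, Finset.sdiff_eq_inter_compl] at this
      omega
    have hoff : ∀ {a b}, Compat S a b → setOf b ⊆ Sᶜ := fun {a b} h x hx =>
      Finset.mem_compl.2 (Finset.disjoint_left.1 h.2 hx)
    unfold run at h
    cases c0 : Nat.beq (Nat.mod t 4) 0
    · rw [c0, cond_false] at h
      cases c1 : Nat.beq (Nat.mod t 4) 1
      · rw [c1, cond_false] at h
        cases c2 : Nat.beq (Nat.mod t 4) 2
        · rw [c2, cond_false] at h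
          rcases List.mem_cons.1 he with rfl | he
          · by_cases hy : ∃ hv : Nat.div t 4 < 112, (⟨Nat.div t 4, hv⟩ : P) ∈ S
            · obtain ⟨hv, hy⟩ := hy
              refine run_sound ts _ h _ List.mem_cons_self S hS ⟨?_, hc.2⟩
              rw [setOf_or, setOf_bit hv]
              exact Finset.union_subset hc.1 (Finset.singleton_subset_iff.2 hy)
            · refine run_sound ts _ h _ (List.mem_cons_of_mem _ List.mem_cons_self) S hS ⟨hc.1, ?_⟩
              rw [Finset.disjoint_left]
              intro x hx hxS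
              rw [setOf_or, Finset.mem_union] at hx
              rcases hx with hx | hx
              · exact Finset.disjoint_left.1 hc.2 hx hxS
              · simp only [mem_setOf, Nat.one_shiftLeft, Nat.testBit_two_pow, decide_eq_true_eq] at hx
                exact hy ⟨hx ▸ x.2, by convert hxS⟩
          · exact run_sound ts _ h e (List.mem_cons_of_mem _ (List.mem_cons_of_mem _ he)) S hS hc
        · simp only [c2, cond_true, Bool.and_eq_true, Nat.blt_eq] at h
          obtain ⟨hk, h⟩ := h
          cases ca : Nat.beq (cnt4 on (Nat.div t 4)) 2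
          · simp only [ca, cond_false, Bool.and_eq_true] at h
            obtain ⟨hb, h⟩ := h
            have hb := Nat.eq_of_beq_eq_true hb
            rw [cnt4_eq hk] at hb
            rcases List.mem_cons.1 he with rfl | he
            · refine run_sound ts _ h _ List.mem_cons_self S hS ⟨?_, hc.2⟩
              rw [setOf_or, setOf_and, setOf_xor_full]
              refine Finset.union_subset hc.1 fun x hx => ?_
              rw [Finset.mem_inter, Finset.mem_compl] at hx
              by_contra hxS
              exact hx.2 (force_eq (hoff hc) hb (hcompl hk) hx.1 (Finset.mem_compl.2 hxS))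
            · exact run_sound ts _ h e (List.mem_cons_of_mem _ he) S hS hc
          · simp only [ca, cond_true] at h
            have ha := Nat.eq_of_beq_eq_true ca
            rw [cnt4_eq hk] at ha
            rcases List.mem_cons.1 he with rfl | he
            · refine run_sound ts _ h _ List.mem_cons_self S hS ⟨hc.1, ?_⟩
              rw [setOf_or, setOf_and, setOf_xor_full, Finset.disjoint_union_left]
              refine ⟨hc.2, Finset.disjoint_left.2 fun x hx hxS => ?_⟩
              rw [Finset.mem_inter, Finset.mem_compl] at hx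
              exact hx.2 (force_eq hc.1 ha (hS _ hk) hx.1 hxS)
            · exact run_sound ts _ h e (List.mem_cons_of_mem _ he) S hS hc
      · simp only [c1, cond_true, Bool.and_eq_true, Bool.or_eq_true, Nat.blt_eq] at h
        obtain ⟨⟨hk, hbad⟩, h⟩ := h
        rcases List.mem_cons.1 he with rfl | he
        · exfalso
          rw [cnt4_eq hk, cnt4_eq hk] at hbad
          rcases hbad with hb | hb
          · have := Finset.card_le_card (Finset.inter_subset_inter (Finset.Subset.refl (qset (Nat.div t 4))) hc.1)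
            rw [hS _ hk] at this; simp only at this; omega
          · have := Finset.card_le_card (Finset.inter_subset_inter (Finset.Subset.refl (qset (Nat.div t 4))) (hoff hc))
            rw [hcompl hk] at this; simp only at this; omega
        · exact run_sound ts _ h e he S hS hc
    · simp only [c0, cond_true, Bool.and_eq_true, Nat.blt_eq] at h
      obtain ⟨⟨⟨⟨hfull, hj⟩, hmem⟩, hten⟩, h⟩ := h
      rcases List.mem_cons.1 he with rfl | he
      · have hfull := congrArg setOf (Nat.eq_of_beq_eq_true hfull)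
        rw [setOf_or, setOf_full] at hfull
        have hSeq : setOf on = S := by
          refine Finset.Subset.antisymm hc.1 fun x hx => ?_
          have := hfull ▸ Finset.mem_univ x
          exact (Finset.mem_union.1 this).resolve_right fun h => Finset.disjoint_left.1 hc.2 h hx
        refine ⟨_, hj, ⟨on, List.contains_iff_mem.1 hmem, hSeq⟩, ?_⟩
        rw [← hSeq, ← setOf_and, ← pc_eq]
        exact Nat.eq_of_beq_eq_true hten
      · exact run_sound ts _ h e he S hS hc

/-- Every hemisystem through the base edge is in the four families. -/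
theorem hem_base {S : Finset P} (hS : Hem S) (h0 : (0 : P) ∈ S) (h1 : pq ∈ S) :
    ∃ j < 4, Fam j S ∧ (setOf (adjM 0) ∩ S).card = 10 := by
  refine run_sound _ _ run_ok _ List.mem_cons_self S hS ⟨?_, by simp [setOf_zero]⟩
  show setOf (1 ||| 1 <<< Data.q1) ⊆ S
  have hz : setOf (1 <<< 0) = {(0 : P)} := setOf_bit (by norm_num)
  have hp : setOf (1 <<< Data.q1) = {pq} := setOf_bit pq.2
  rw [setOf_or, hp, show setOf 1 = {(0 : P)} from hz]
  exact Finset.union_subset (Finset.singleton_subset_iff.2 h0) (Finset.singleton_subset_iff.2 h1)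

theorem exists_edge_in {S : Finset P} (hS : Hem S) {i : P} (hi : i ∈ S) : ∃ j ∈ S, madj i j := by
  obtain ⟨j, hj⟩ : ∃ j, madj i j := by
    have h := (madj_spec i).2.2.1
    obtain ⟨j, hj⟩ := Finset.card_pos.1 (h.symm ▸ (by norm_num : 0 < 30))
    exact ⟨j, mem_setOf.1 hj⟩
  obtain ⟨k, hk, hik, -⟩ := exists_quad hj
  obtain ⟨a, b, hab, he⟩ := Finset.card_eq_two.1 (hS k hk)
  have hm : ∀ x, x ∈ qset k ∩ S ↔ x = a ∨ x = b := fun x => by rw [he]; simp
  obtain rfl | rfl := (hm i).1 (Finset.mem_inter.2 ⟨hik, hi⟩)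
  · have hb := Finset.mem_inter.1 ((hm b).2 (Or.inr rfl))
    exact ⟨b, hb.2, quad_clique hk hik hb.1 hab⟩
  · have ha := Finset.mem_inter.1 ((hm a).2 (Or.inl rfl))
    exact ⟨a, ha.2, quad_clique hk hik ha.1 (Ne.symm hab)⟩

/-- The neighbours of a point inside a hemisystem, and the family of a hemisystem. -/
theorem hem_spec {S : Finset P} (hS : Hem S) {i : P} (hi : i ∈ S) :
    (setOf (adjM i) ∩ S).card = 10 ∧ ∃ j < 4, Fam j S := by
  obtain ⟨j, hj, hadj⟩ := exists_edge_in hS hi
  obtain ⟨π, hπ, rfl, rfl⟩ := exists_map_edge hadj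
  have hS' := hem_image (inv_mem hπ) hS
  obtain ⟨l, hl, hfam, hten⟩ := hem_base hS' (Finset.mem_image.2 ⟨_, hi, by simp⟩)
    (Finset.mem_image.2 ⟨_, hj, by simp⟩)
  refine ⟨?_, l, hl, ?_⟩
  · rw [← hten, ← Finset.card_image_of_injective _ π⁻¹.injective, Finset.image_inter _ _ π⁻¹.injective]
    congr 2
    ext x
    simp only [Finset.mem_image, mem_setOf]
    constructor
    · rintro ⟨y, hy, rfl⟩
      have := H0_le_autG (inv_mem hπ) (π 0) y
      simp only [madj] at this
      simpa using this.2 hy
    · intro hx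
      refine ⟨π x, (H0_le_autG hπ 0 x).2 hx, by simp⟩
  · have := fam_image hl hπ hfam
    rwa [Finset.image_image, show (⇑π ∘ ⇑π⁻¹) = id from funext fun x => by simp, Finset.image_id] at this

end CfsgLib.McLRecog
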