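import Cfsg.Agent.Lib.McLRecog.Conf
import Cfsg.Agent.Lib.McLRecog.Psu
import Mathlib.Algebra.Group.End

/-! Two groups with the same configuration are isomorphic. -/

set_option autoImplicit false

namespace CfsgLib.McLRecog

universe u v

variable {Ω : Type u} {Ω' : Type v} [Fintype Ω] [Fintype Ω']

/-- The graph automorphisms. -/
def autOf (Γ : SimpleGraph Ω) : Subgroup (Equiv.Perm Ω) where
  carrier := {π | ∀ x y, Γ.Adj (π x) (π y) ↔ Γ.Adj x y}
  one_mem' := fun _ _ => Iff.rfl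
  mul_mem' := fun {a b} ha hb x y => (ha (b x) (b y)).trans (hb x y)
  inv_mem' := fun {a} ha x y => by simpa using (ha (a⁻¹ x) (a⁻¹ y)).symm

namespace Conf

variable {G : Subgroup (Equiv.Perm Ω)} {a : Ω} (C : Conf G a)

theorem trichotomy (x : Ω) : x = a ∨ (∃ i, C.f i = x) ∨ (x ≠ a ∧ ¬ C.Γ.Adj a x) := by
  by_cases h : x = a
  · exact Or.inl h
  by_cases h' : C.Γ.Adj a x
  · exact Or.inr (Or.inl ((C.f_range x).2 h'))
  · exact Or.inr (Or.inr ⟨h, h'⟩)

theorem adj_f (i : P) : C.Γ.Adj a (C.f i) := (C.f_range _).1 ⟨i, rfl⟩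

/-- The stabiliser in the automorphisms. -/
def stab : Subgroup (Equiv.Perm Ω) := autOf C.Γ ⊓ MulAction.stabilizer (Equiv.Perm Ω) a

theorem exists_res {π : Equiv.Perm Ω} (h : π ∈ C.stab) (i : P) : ∃ j, C.f j = π (C.f i) := by
  refine (C.f_range _).2 ?_
  have := (h.1 a (C.f i)).2 (C.adj_f i)
  rwa [show π a = a from h.2] at this

/-- Restriction to the neighbours of `a`. -/
noncomputable def res : C.stab →* Equiv.Perm P :=
  MonoidHom.mk' (fun π => Equiv.ofBijective (fun i => (C.exists_res π.2 i).choose)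
    (Finite.injective_iff_bijective.1 fun i j e => C.f_inj (π.1.injective (by
      rw [← (C.exists_res π.2 i).choose_spec, ← (C.exists_res π.2 j).choose_spec]
      exact congrArg C.f e))))
    fun π σ => Equiv.ext fun i => C.f_inj (by
      show C.f (C.exists_res (π * σ).2 i).choose = C.f (C.exists_res π.2 (C.exists_res σ.2 i).choose).choose
      rw [(C.exists_res (π * σ).2 i).choose_spec, (C.exists_res π.2 _).choose_spec, (C.exists_res σ.2 i).choose_spec]
      rfl)

theorem res_spec (π : C.stab) (i : P) : C.f (C.res π i) = π.1 (C.f i) := (C.exists_res π.2 i).choose_spec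

theorem res_mem (π : C.stab) : C.res π ∈ autG := fun i j => by
  rw [← C.f_adj, ← C.f_adj, C.res_spec, C.res_spec]
  exact π.2.1 _ _

theorem res_injective : Function.Injective C.res := by
  rw [injective_iff_map_eq_one]
  intro π h
  have hA : ∀ i, π.1 (C.f i) = C.f i := fun i => by rw [← C.res_spec, h]; rfl
  refine Subtype.ext (Equiv.ext fun x => ?_)
  show π.1 x = x
  rcases C.trichotomy x with rfl | ⟨i, rfl⟩ | ⟨hxa, hx⟩
  · exact π.2.2
  · exact hA i
  · have ha : π.1 a = a := π.2.2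
    refine C.nb_inj _ _ (fun e => hxa (π.1.injective (e.trans ha.symm)))
      (fun e => hx ((π.2.1 a x).1 (by rwa [ha]))) hxa hx ?_
    ext i
    rw [mem_nbrs, mem_nbrs, ← π.2.1 x (C.f i), hA]

theorem card_stab_le : Nat.card C.stab ≤ 8 * 3265920 := by
  refine le_trans ?_ card_autG_le
  exact Nat.card_le_card_of_injective (fun π => (⟨C.res π, C.res_mem π⟩ : autG)) fun π σ e =>
    C.res_injective (congrArg (fun z : autG => z.1) e)

/-- Two simple groups of this order fixing `a` are equal. -/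
theorem stab_unique {A B : Subgroup (Equiv.Perm Ω)} (hA : A ≤ C.stab) (hB : B ≤ C.stab)
    (cA : Nat.card A = 3265920) (cB : Nat.card B = 3265920) (hs : IsSimpleGroup A) : A = B := by
  have him : ∀ (D : Subgroup (Equiv.Perm Ω)) (hD : D ≤ C.stab),
      Function.Injective (C.res.comp (Subgroup.inclusion hD)) :=
    fun D hD => C.res_injective.comp (Subgroup.inclusion_injective hD)
  have hle : ∀ (D : Subgroup (Equiv.Perm Ω)) (hD : D ≤ C.stab),
      (C.res.comp (Subgroup.inclusion hD)).range ≤ autG := by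
    rintro D hD _ ⟨x, rfl⟩; exact C.res_mem _
  have hc : ∀ (D : Subgroup (Equiv.Perm Ω)) (hD : D ≤ C.stab), Nat.card D = 3265920 →
      Nat.card (C.res.comp (Subgroup.inclusion hD)).range = 3265920 := fun D hD h =>
    (Nat.card_congr (MonoidHom.ofInjective (him D hD)).toEquiv).symm.trans h
  have heq := unique_copy (hle A hA) (hle B hB) (hc A hA cA) (hc B hB cB)
    (MonoidHom.ofInjective (him A hA)).symm.isSimpleGroup
  refine Subgroup.eq_of_le_of_card_ge (fun x hx => ?_) (by rw [cA, cB])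
  have hm : C.res.comp (Subgroup.inclusion hA) ⟨x, hx⟩ ∈ (C.res.comp (Subgroup.inclusion hB)).range :=
    heq ▸ ⟨_, rfl⟩
  obtain ⟨y, hy⟩ := hm
  have : Subgroup.inclusion hB y = Subgroup.inclusion hA ⟨x, hx⟩ := C.res_injective hy
  have e : y.1 = x := congrArg (fun z : C.stab => z.1) this
  exact e ▸ y.2

variable {G' : Subgroup (Equiv.Perm Ω')} {a' : Ω'} (C' : Conf G' a')

theorem exists_iso (hcard : Fintype.card Ω = Fintype.card Ω') :
    ∃ ψ : Ω ≃ Ω', ψ a = a' ∧ ∀ x y, C'.Γ.Adj (ψ x) (ψ y) ↔ C.Γ.Adj x y := by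
  classical
  have hB : ∀ x, x ≠ a ∧ ¬ C.Γ.Adj a x → ∃ y, y ≠ a' ∧ ¬ C'.Γ.Adj a' y ∧
      nbrs C'.Γ C'.f y = nbrs C.Γ C.f x := fun x h => C'.fam_surj _ (C.fam x h.1 h.2)
  let m : Ω → Ω' := fun x => if h : x = a then a' else if h' : C.Γ.Adj a x then
    C'.f ((C.f_range x).2 h').choose else (hB x ⟨h, h'⟩).choose
  have m0 : m a = a' := dif_pos rfl
  have m1 : ∀ i, m (C.f i) = C'.f i := fun i => by
    have ha : C.f i ≠ a := (C.adj_f i).ne.symm
    simp only [m, dif_neg ha, dif_pos (C.adj_f i)]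
    exact congrArg C'.f (C.f_inj ((C.f_range _).2 (C.adj_f i)).choose_spec)
  have m2 : ∀ x, x ≠ a → ¬ C.Γ.Adj a x → m x ≠ a' ∧ ¬ C'.Γ.Adj a' (m x) ∧
      nbrs C'.Γ C'.f (m x) = nbrs C.Γ C.f x := fun x h h' => by
    simp only [m, dif_neg h, dif_neg h']
    exact (hB x ⟨h, h'⟩).choose_spec
  have hinj : Function.Injective m := by
    intro x y e
    rcases C.trichotomy x with hx | ⟨i, hi⟩ | ⟨h1, h2⟩ <;>
      rcases C.trichotomy y with hy | ⟨l, hl⟩ | ⟨h3, h4⟩
    · exact hx.trans hy.symm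
    · rw [hx, m0, ← hl, m1] at e; exact absurd e (C'.adj_f l).ne
    · rw [hx, m0] at e; exact absurd e.symm (m2 y h3 h4).1
    · rw [hy, m0, ← hi, m1] at e; exact absurd e (C'.adj_f i).ne.symm
    · rw [← hi, ← hl, m1, m1] at e; rw [← hi, ← hl, C'.f_inj e]
    · rw [← hi, m1] at e; exact absurd (e ▸ C'.adj_f i) (m2 y h3 h4).2.1
    · rw [hy, m0] at e; exact absurd e (m2 x h1 h2).1
    · rw [← hl, m1] at e; exact absurd (e.symm ▸ C'.adj_f l) (m2 x h1 h2).2.1
    · exact C.nb_inj x y h1 h2 h3 h4 (by rw [← (m2 x h1 h2).2.2, e, (m2 y h3 h4).2.2])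
  let ψ := Equiv.ofBijective m ((Fintype.bijective_iff_injective_and_card m).2 ⟨hinj, hcard⟩)
  have hfb : ∀ x, x ≠ a → ¬ C.Γ.Adj a x → ∀ i, C'.Γ.Adj (m x) (C'.f i) ↔ C.Γ.Adj x (C.f i) := by
    intro x h1 h2 i
    rw [← mem_nbrs, (m2 x h1 h2).2.2, mem_nbrs]
  refine ⟨ψ, m0, fun x y => ?_⟩
  show C'.Γ.Adj (m x) (m y) ↔ C.Γ.Adj x y
  rcases C.trichotomy x with hx | ⟨i, hi⟩ | ⟨h1, h2⟩ <;>
    rcases C.trichotomy y with hy | ⟨l, hl⟩ | ⟨h3, h4⟩
  · rw [hx, hy]; simp
  · rw [hx, ← hl, m0, m1]; exact iff_of_true (C'.adj_f l) (C.adj_f l)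
  · rw [hx, m0]; exact iff_of_false (m2 y h3 h4).2.1 h4
  · rw [hy, ← hi, m0, m1]; exact iff_of_true (C'.adj_f i).symm (C.adj_f i).symm
  · rw [← hi, ← hl, m1, m1, C'.f_adj, C.f_adj]
  · rw [← hi, m1, C'.Γ.adj_comm, hfb y h3 h4, C.Γ.adj_comm]
  · rw [hy, m0]; exact iff_of_false (fun h => (m2 x h1 h2).2.1 h.symm) (fun h => h2 h.symm)
  · rw [← hl, m1, hfb x h1 h2]
  · by_cases hxy : x = y
    · subst hxy; simp
    obtain ⟨a1, a2, a3⟩ := m2 x h1 h2
    obtain ⟨b1, b2, b3⟩ := m2 y h3 h4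
    rw [C'.nb_adj _ _ a1 a2 b1 b2 (fun e => hxy (hinj e)), C.nb_adj x y h1 h2 h3 h4 hxy, a3, b3]

end Conf

theorem card_of_stab {Δ : Type*} [Fintype Δ] (L : Subgroup (Equiv.Perm Δ)) [MulAction.IsPretransitive L Δ]
    (d : Δ) (hΔ : Fintype.card Δ = 275) (e : MulAction.stabilizer L d ≃* H0) :
    Nat.card L = 3265920 * 275 := by
  have h := Subgroup.card_mul_index (MulAction.stabilizer L d)
  rw [MulAction.index_stabilizer_of_transitive, Nat.card_congr e.toEquiv, card_H0,
    Nat.card_eq_fintype_card (α := Δ), hΔ] at h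
  exact h.symm

/-- Rank three groups of degree 275 with stabiliser `U₄(3)` are isomorphic. -/
theorem nonempty_equiv (hΩ : Fintype.card Ω = 275) (G : Subgroup (Equiv.Perm Ω))
    [MulAction.IsPretransitive G Ω] (a b c : Ω) (φ : MulAction.stabilizer G a ≃* H0)
    (hb : (MulAction.orbit (MulAction.stabilizer G a) b).ncard = 112)
    (hc : (MulAction.orbit (MulAction.stabilizer G a) c).ncard = 162)
    (hΩ' : Fintype.card Ω' = 275) (G' : Subgroup (Equiv.Perm Ω'))
    [MulAction.IsPretransitive G' Ω'] (a' b' c' : Ω') (φ' : MulAction.stabilizer G' a' ≃* H0)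
    (hb' : (MulAction.orbit (MulAction.stabilizer G' a') b').ncard = 112)
    (hc' : (MulAction.orbit (MulAction.stabilizer G' a') c').ncard = 162) : Nonempty (G ≃* G') := by
  classical
  obtain ⟨C⟩ := exists_conf hΩ G a b c φ hb hc
  obtain ⟨C'⟩ := exists_conf hΩ' G' a' b' c' φ' hb' hc'
  obtain ⟨ψ, hψa, hψ⟩ := C.exists_iso C' (hΩ.trans hΩ'.symm)
  set κ := (Equiv.permCongrHom ψ.symm).toMonoidHom with hκ
  have hκi : Function.Injective κ := (Equiv.permCongrHom ψ.symm).injective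
  have happ : ∀ (π : Equiv.Perm Ω') (x : Ω), κ π x = ψ.symm (π (ψ x)) := fun π x => by
    simp [hκ, Equiv.permCongr_apply]
  set K := G'.map κ with hK
  have cK : Nat.card K = Nat.card G := by
    rw [hK, Subgroup.card_map_of_injective hκi, card_of_stab G' a' hΩ' φ', card_of_stab G a hΩ φ]
  have hKaut : K ≤ autOf C.Γ := by
    rintro _ ⟨g, hg, rfl⟩ x y
    rw [happ, happ, ← hψ, Equiv.apply_symm_apply, Equiv.apply_symm_apply, C'.hG g hg, hψ]
  have hGaut : G ≤ autOf C.Γ := fun g hg => C.hG g hg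
  set Ga := (MulAction.stabilizer G a).map G.subtype with hGa
  set Ka := (((MulAction.stabilizer G' a').map G'.subtype)).map κ with hKa
  have h1 : Ga ≤ C.stab := by
    rintro _ ⟨g, hg, rfl⟩; exact ⟨hGaut g.2, hg⟩
  have h2 : Ka ≤ C.stab := by
    rintro _ ⟨_, ⟨g, hg, rfl⟩, rfl⟩
    refine ⟨hKaut ⟨g, g.2, rfl⟩, ?_⟩
    show κ g.1 a = a
    rw [happ, hψa, show g.1 a' = a' from hg, ← hψa, Equiv.symm_apply_apply]
  have c1 : Nat.card Ga = 3265920 := by
    rw [hGa, Subgroup.card_map_of_injective G.subtype_injective, Nat.card_congr φ.toEquiv, card_H0]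
  have c2 : Nat.card Ka = 3265920 := by
    rw [hKa, Subgroup.card_map_of_injective hκi, Subgroup.card_map_of_injective G'.subtype_injective,
      Nat.card_congr φ'.toEquiv, card_H0]
  have hs : IsSimpleGroup Ga := by
    have := isSimple_H0
    exact ((Subgroup.equivMapOfInjective _ _ G.subtype_injective).symm.trans φ).isSimpleGroup
  have heq := C.stab_unique h1 h2 c1 c2 hs
  suffices hle : G ≤ K by
    have : G = K := Subgroup.eq_of_le_of_card_ge hle cK.le
    exact ⟨(MulEquiv.subgroupCongr this).trans (Subgroup.equivMapOfInjective G' κ hκi).symm⟩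
  set D : Subgroup G := K.subgroupOf G with hD
  have haut : Nat.card (autOf C.Γ) ≤ 275 * (8 * 3265920) := by
    have h := Subgroup.card_mul_index (MulAction.stabilizer (autOf C.Γ) a)
    rw [MulAction.index_stabilizer] at h
    have e : Nat.card (MulAction.stabilizer (autOf C.Γ) a) ≤ 8 * 3265920 := by
      refine le_trans ?_ C.card_stab_le
      exact Nat.card_le_card_of_injective (fun π => (⟨π.1.1, π.1.2, π.2⟩ : C.stab))
        fun x y e => Subtype.ext (Subtype.ext (congrArg (fun z : C.stab => z.1) e))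
    have o : (MulAction.orbit (autOf C.Γ) a).ncard ≤ 275 := by
      rw [← hΩ, ← Nat.card_eq_fintype_card]; exact Set.ncard_le_card _
    rw [← h, mul_comm 275]
    exact Nat.mul_le_mul e o
  have hidx : D.index ≤ 8 := by
    have e : D.index = K.relIndex G := rfl
    have hKr : K.relIndex (autOf C.Γ) * Nat.card K = Nat.card (autOf C.Γ) := by
      rw [← Nat.card_congr (Subgroup.subgroupOfEquivOfLe hKaut).toEquiv, mul_comm]
      exact Subgroup.card_mul_index (K.subgroupOf (autOf C.Γ))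
    have hle : K.relIndex G ≤ K.relIndex (autOf C.Γ) :=
      Subgroup.relIndex_le_of_le_right hGaut (by
        intro h0; rw [h0, zero_mul] at hKr; exact Nat.card_pos.ne hKr)
    rw [e]
    refine hle.trans (Nat.le_of_mul_le_mul_right ?_ (Nat.card_pos (α := K)))
    rw [hKr, cK, card_of_stab G a hΩ φ]
    exact haut.trans (le_of_eq (by norm_num))
  have hGaD : MulAction.stabilizer G a ≤ D := by
    intro g hg
    have : (g : Equiv.Perm Ω) ∈ Ka := heq ▸ ⟨g, hg, rfl⟩
    obtain ⟨x, ⟨y, -, rfl⟩, e⟩ := this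
    exact ⟨y.1, y.2, e⟩
  -- the orbit of `a` under `D`
  set O := MulAction.orbit D a with hO
  have hDst : Nat.card (MulAction.stabilizer D a) = 3265920 := by
    rw [← card_H0, ← Nat.card_congr φ.toEquiv]
    exact Nat.card_congr ⟨fun x => ⟨x.1.1, x.2⟩, fun x => ⟨⟨x.1, hGaD x.2⟩, x.2⟩, fun _ => rfl, fun _ => rfl⟩
  have hDO := Subgroup.card_mul_index (MulAction.stabilizer D a)
  rw [MulAction.index_stabilizer, hDst, ← hO] at hDO
  have hDG := Subgroup.card_mul_index D
  rw [← hDO, card_of_stab G a hΩ φ, mul_assoc] at hDG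
  have hOD : O.ncard * D.index = 275 := Nat.eq_of_mul_eq_mul_left (by norm_num) hDG
  have hcases : D.index = 1 ∨ O.ncard ≤ 92 ∧ 2 ≤ O.ncard := by
    rcases Nat.lt_or_ge D.index 3 with h | h
    · interval_cases hd : D.index
      · simp at hOD
      · exact Or.inl rfl
      · omega
    · right
      constructor
      · nlinarith
      · nlinarith
  rcases hcases with h | ⟨hle92, h2O⟩
  · exact Subgroup.subgroupOf_eq_top.1 (Subgroup.index_eq_one.1 h)
  exfalso
  obtain ⟨x, hx, hxa⟩ := Set.exists_ne_of_one_lt_ncard (s := O) (by omega) a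
  have hsub : MulAction.orbit (MulAction.stabilizer G a) x ⊆ O := by
    rintro _ ⟨s, rfl⟩
    rw [hO, ← MulAction.orbit_eq_iff.2 hx]
    exact ⟨⟨s.1, hGaD s.2⟩, rfl⟩
  have hbig : 112 ≤ (MulAction.orbit (MulAction.stabilizer G a) x).ncard := by
    obtain ⟨Γ, -, -, hA, hB⟩ := exists_srg hΩ G a b c hb hc
    by_cases h : Γ.Adj a x
    · rw [MulAction.orbit_eq_iff.2 ((hA x).1 h), hb]
    · rw [MulAction.orbit_eq_iff.2 (hB x hxa h), hc]; norm_num
  have := Set.ncard_le_ncard hsub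
  omega

end CfsgLib.McLRecog
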